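import Cfsg.Agent.H892.EP.Defs
import Cfsg.Agent.H658.HeightZeroSq
import Cfsg.Agent.H809.Evn.Odd
import Cfsg.Agent.H734.KB.Crit
import Cfsg.Agent.H644.CentralQuot
import Cfsg.Agent.H684.BlockTools
import Cfsg.Agent.H595.AbCount
import Cfsg.Agent.S0919
import Cfsg.Agent.S0936
import Cfsg.Agent.S0907

/-!
# S4929, theorem R (helper790; idea: helper892)

* `even_blockRank_of_real` : if all degrees in `B₀(G)` are odd and `z ≠ 1` is a real `p`-element, `p` odd, then
  `l(B₀(C_G(z)))` is even;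
* `exists_even_of_real_pair`, `evAt_of_real_pair` : `P = ⟨z, u⟩` an abelian Sylow `p`-subgroup, `z ≠ 1` real, no element of
  `N(P) ∩ C(z)` acts on `P` as an involution.
-/

set_option autoImplicit false
set_option linter.unusedSectionVars false

open Cfsg Cfsg.Agent.Blocks.Basic Cfsg.Agent.Blocks.Local Cfsg.Agent.Blocks.Blau
open scoped ComplexConjugate

namespace Cfsg.Agent.H790.EP

open Cfsg.Agent.Characters.Core (finite_irr isIrr_isCharacter isIrr_isClassFunction isIrr_comp)
open Cfsg.Agent.H613.RegGram Cfsg.Agent.H613.Contrib Cfsg.Agent.H613.ContribVal Cfsg.Agent.H658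

section sym

variable {G : Type*} [Group G] [Finite G] {p : ℕ} [Fact p.Prime] {M : Ideal AlgInt}

/-- conjugation by an element inverting `u` -/
theorem exists_aut {u t : G} (ht : t * u * t⁻¹ = u⁻¹) {H : Subgroup G}
    (hH : H = Subgroup.centralizer ({u} : Set G)) : ∃ e : H ≃* H, ∀ y : H, ((e y : H) : G) = t * y * t⁻¹ := by
  have hu : u ∈ H := by rw [hH, Subgroup.mem_centralizer_singleton_iff]
  have key : ∀ s : G, (s * u * s⁻¹ = u⁻¹) → ∀ y ∈ H, s * y * s⁻¹ ∈ H := by
    intro s hs y hy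
    rw [hH, Subgroup.mem_centralizer_singleton_iff] at hy ⊢
    have h1 : u = (s * u * s⁻¹)⁻¹ := by rw [hs, inv_inv]
    calc s * y * s⁻¹ * u = s * y * s⁻¹ * (s * u * s⁻¹)⁻¹ := by rw [← h1]
      _ = s * (y * u⁻¹) * s⁻¹ := by group
      _ = s * (u⁻¹ * y) * s⁻¹ := by
          rw [(show Commute y u⁻¹ from Commute.inv_right (show Commute y u from hy)).eq]
      _ = (s * u * s⁻¹)⁻¹ * (s * y * s⁻¹) := by group
      _ = u * (s * y * s⁻¹) := by rw [← h1]
  have ht' : t⁻¹ * u * t⁻¹⁻¹ = u⁻¹ := by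
    have h1 : u = t⁻¹ * u⁻¹ * t := by rw [← ht]; group
    have h2 : u⁻¹ = t⁻¹ * u * t := by
      calc u⁻¹ = (t⁻¹ * u⁻¹ * t)⁻¹ := by rw [← h1]
        _ = _ := by group
    rw [inv_inv, ← h2]
  refine ⟨{ toFun := fun y => ⟨t * y * t⁻¹, key t ht y y.2⟩
            invFun := fun y => ⟨t⁻¹ * y * t⁻¹⁻¹, key t⁻¹ ht' y y.2⟩
            left_inv := fun y => Subtype.ext (by simp [mul_assoc])
            right_inv := fun y => Subtype.ext (by simp [mul_assoc])
            map_mul' := fun y y' => Subtype.ext (by simp [mul_assoc]) }, fun y => rfl⟩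

theorem conj_wt {u t : G} (ht : t * u * t⁻¹ = u⁻¹) {H : Subgroup G} [Fintype H]
    (hH : H = Subgroup.centralizer ({u} : Set G)) (e : H ≃* H) (he : ∀ y : H, ((e y : H) : G) = t * y * t⁻¹)
    (ψ : IrrCharacter G) (η : IrrCharacter H) :
    conj (wt p u (ψ : G → ℂ) (η : H → ℂ)) = wt p u (ψ : G → ℂ) ((η : H → ℂ) ∘ e) := by
  classical
  rw [wt_def, wt_def, rg_def, rg_def, pair_eq_sum_filter, pair_eq_sum_filter, map_mul, map_inv₀,
    Complex.conj_natCast, map_sum]
  congr 1
  let τ : H ≃ H := e.toEquiv.trans (Equiv.inv H)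
  have hτ : ∀ y, τ y = (e y)⁻¹ := fun y => rfl
  symm
  refine Finset.sum_equiv τ (fun y => ?_) (fun y _ => ?_)
  · rw [Finset.mem_filter, Finset.mem_filter, hτ, orderOf_inv, e.orderOf_eq]
    simp
  · rw [hτ, map_mul, Complex.conj_conj,
      ← Cfsg.Agent.Characters.Core.isCharacter_apply_inv (isIrr_isCharacter ψ.2)]
    have h1 : (η : H → ℂ) (e y)⁻¹ = conj ((η : H → ℂ) (e y)) :=
      Cfsg.Agent.Characters.Core.isCharacter_apply_inv (isIrr_isCharacter η.2) _
    have h2 : (u * (((e y)⁻¹ : H) : G))⁻¹ = t * (u * (y : G)) * t⁻¹ := by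
      have h3 : (y : G) * u = u * y := Subgroup.mem_centralizer_singleton_iff.1 (hH ▸ y.2)
      rw [Subgroup.coe_inv, he, mul_inv_rev, inv_inv, ← ht, ← h3]
      group
    rw [h1, h2, isIrr_isClassFunction ψ.2, Function.comp_apply]

theorem contr_symm (hM : IsPModular p M) {u t : G} (ht : t * u * t⁻¹ = u⁻¹) {H : Subgroup G} [Fintype H]
    (hH : H = Subgroup.centralizer ({u} : Set G)) [Fintype (principalBlock M H)] (χ ψ : IrrCharacter G) :
    contr p u (principalBlock M H) (χ : G → ℂ) (ψ : G → ℂ) =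
      contr p u (principalBlock M H) (ψ : G → ℂ) (χ : G → ℂ) := by
  obtain ⟨e, he⟩ := exists_aut ht hH
  -- the involution `η ↦ η ∘ e`
  let F : principalBlock M H → principalBlock M H := fun η =>
    ⟨_, Cfsg.Agent.H684.BlockTools.infl_mem hM e.toMonoidHom e.surjective η.2⟩
  have hF : ∀ η : principalBlock M H, ((F η : IrrCharacter H) : H → ℂ) = ((η : IrrCharacter H) : H → ℂ) ∘ e :=
    fun η => rfl
  have ht2 : t * t ∈ H := by
    rw [hH, Subgroup.mem_centralizer_singleton_iff]
    have h1 : t * u = u⁻¹ * t := by rw [← ht]; group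
    have h2 : t * u⁻¹ = u * t := by
      have : t * u⁻¹ * t⁻¹ = u := by
        calc t * u⁻¹ * t⁻¹ = (t * u * t⁻¹)⁻¹ := by group
          _ = u := by rw [ht, inv_inv]
      calc t * u⁻¹ = t * u⁻¹ * t⁻¹ * t := by group
        _ = u * t := by rw [this]
    calc t * t * u = t * (t * u) := by group
      _ = t * u⁻¹ * t := by rw [h1]; group
      _ = u * (t * t) := by rw [h2]; group
  have hinv : Function.Involutive F := by
    intro η
    apply Subtype.ext
    apply Subtype.ext
    funext y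
    rw [hF, hF, Function.comp_apply, Function.comp_apply]
    have h1 : e (e y) = ⟨t * t, ht2⟩ * y * ⟨t * t, ht2⟩⁻¹ := by
      apply Subtype.ext
      rw [he, he]
      push_cast
      group
    rw [h1, isIrr_isClassFunction (η : IrrCharacter H).2]
  have hc : ∀ (ψ : IrrCharacter G) (η : principalBlock M H),
      conj (wt p u (ψ : G → ℂ) ((η : IrrCharacter H) : H → ℂ)) =
        wt p u (ψ : G → ℂ) ((F η : IrrCharacter H) : H → ℂ) := fun ψ η => conj_wt ht hH e he ψ η
  rw [contr_def, contr_def]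
  refine Fintype.sum_equiv hinv.toPerm _ _ fun η => ?_
  rw [Function.Involutive.coe_toPerm, hc, hc, hinv]
  ring

end sym

section main

variable {G : Type*} [Group G] [Finite G] {p : ℕ} [Fact p.Prime] {M : Ideal AlgInt}

/-- the third main theorem for `C_G(z)` -/
theorem induced_principal (hM : IsPModular p M) (z : G) (hz : ∃ k : ℕ, orderOf z = p ^ k) {H : Subgroup G}
    (hH : H = Subgroup.centralizer ({z} : Set G)) : IsInducedBlock M H (principalBlock M H) (principalBlock M G) := by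
  have hP : IsPGroup p (Subgroup.zpowers z) := by
    obtain ⟨k, hk⟩ := hz
    exact IsPGroup.of_card (n := k) (by rw [Nat.card_zpowers, hk])
  have hHc : H = Subgroup.centralizer ((Subgroup.zpowers z : Subgroup G) : Set G) := by
    rw [hH]
    apply le_antisymm
    · intro y hy
      rw [Subgroup.mem_centralizer_singleton_iff] at hy
      rw [Subgroup.mem_centralizer_iff]
      rintro _ ⟨i, rfl⟩
      exact ((show Commute y z from hy).zpow_right i).symm.eq
    · exact Subgroup.centralizer_le (Set.singleton_subset_iff.2 (Subgroup.mem_zpowers z))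
  have hb : IsPBlock M (principalBlock M H) := Blocks.PrincipalSection.isPBlock_principalBlock
  have hle : Subgroup.zpowers z ≤ H := by
    rw [Subgroup.zpowers_le, hH, Subgroup.mem_centralizer_singleton_iff]
  have hdef : InducedBlockDefined M H (principalBlock M H) :=
    S0919.result p M hM (Subgroup.zpowers z) _ hP hle hHc.ge
      (hHc.le.trans (Subgroup.centralizer_le_normalizer _)) _ hb
  exact (S0936.result p M hM _ _ hdef).2 rfl

/-- a natural number all of whose ... : `n` odd is not twice an algebraic integer (copy for products) -/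
theorem even_of_two_mul {n : ℕ} {a : ℂ} (ha : IsIntegral ℤ a) (h : (n : ℂ) = 2 * a) : Even n := by
  by_contra hn
  exact Cfsg.Agent.H809.Evn.not_two_mul (Nat.not_even_iff_odd.1 hn) ha h

/-- **Theorem R.** -/
theorem even_blockRank_of_real (hM : IsPModular p M) (hp2 : p ≠ 2)
    (hall : ∀ χ ∈ principalBlock M G, ¬ 2 ∣ charDegree (χ : G → ℂ)) (z : G) (hz : ∃ k : ℕ, orderOf z = p ^ k)
    (hz1 : z ≠ 1) (hr : IsConj z z⁻¹) {H : Subgroup G} (hH : H = Subgroup.centralizer ({z} : Set G)) :
    Even (blockRank p (principalBlock M H)) := by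
  classical
  have hp : p.Prime := Fact.out
  have := Fintype.ofFinite G
  have := Fintype.ofFinite H
  have := finite_irr (G := H)
  have := Fintype.ofFinite (IrrCharacter H)
  have := finite_irr (G := G)
  have := Fintype.ofFinite (IrrCharacter G)
  have : Fintype (principalBlock M H) := Fintype.ofFinite _
  have : Fintype (principalBlock M G) := Fintype.ofFinite _
  obtain ⟨t, ht⟩ := isConj_iff.1 hr
  have hind := induced_principal hM z hz hH
  obtain ⟨j, hj⟩ := id hz
  have hj0 : j ≠ 0 := by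
    rintro rfl
    rw [pow_zero, orderOf_eq_one_iff] at hj
    exact hz1 hj
  obtain ⟨n, e, hE⟩ := exists_exp hH (q := p ^ j) (by rw [← hj]; exact pow_orderOf_eq_one z)
  have hex : ∀ ξ η : IrrCharacter H, ∃ k : ℤ, ξ ∈ principalBlock M H →
      (p : ℂ) ^ blockDefect p (principalBlock M H) * rg p (ξ : H → ℂ) (η : H → ℂ) = k := by
    intro ξ η
    by_cases hξ : ξ ∈ principalBlock M H
    · obtain ⟨k, hk⟩ := exists_int_rg hM hξ η
      exact ⟨k, fun _ => hk⟩
    · exact ⟨0, fun h => absurd h hξ⟩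
  choose k hk using hex
  set d := blockDefect p (principalBlock M H) with hd
  -- the integral contributions
  set E : IrrCharacter G → IrrCharacter G → ℂ := fun χ ψ =>
    (p : ℂ) ^ d * contr p z (principalBlock M H) (χ : G → ℂ) (ψ : G → ℂ) with hEdef
  have hint : ∀ χ ψ, IsIntegral ℤ (E χ ψ) := by
    intro χ ψ
    have h1 := pow_mul_contr_eq hM hE hind.1 (fun ξ hξ η => hk ξ η hξ) χ ψ (k := 1) (by rw [pow_one]; exact hH)
    rw [pow_one] at h1
    rw [hEdef]
    show IsIntegral ℤ ((p : ℂ) ^ d * contr p z (principalBlock M H) (χ : G → ℂ) (ψ : G → ℂ))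
    rw [h1]
    refine IsIntegral.sum _ fun i _ => IsIntegral.mul ?_ (IsIntegral.pow ?_ 1)
    · have h2 : ((((n χ i.1 * n ψ i.2 * k i.1 i.2 : ℤ)) : ℚ) : ℂ) =
          (((n χ i.1 * n ψ i.2 * k i.1 i.2 : ℤ)) : ℂ) := by
        push_cast
        rfl
      rw [h2]
      exact isIntegral_algebraMap (R := ℤ) (x := (n χ i.1 * n ψ i.2 * k i.1 i.2 : ℤ))
    · have hne : p ^ j ≠ 0 := pow_ne_zero _ hp.ne_zero
      exact (isIntegral_of_pow_eq_one hne (hE.root _)).mul
        (Cfsg.Agent.H658.isIntegral_conj (isIntegral_of_pow_eq_one hne (hE.root _)))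
  have hsym : ∀ χ ψ, E χ ψ = E ψ χ := fun χ ψ => by
    rw [hEdef]
    show (p : ℂ) ^ d * _ = (p : ℂ) ^ d * _
    rw [contr_symm hM ht hH χ ψ]
  have hidem : ∀ χ : IrrCharacter G, ∑ ψ : principalBlock M G, E χ ψ * E χ ψ = (p : ℂ) ^ d * E χ χ := by
    intro χ
    have h1 := sum_contr_mul_contr hM hz hH hind (χ := (χ : G → ℂ)) (χ' := (χ : G → ℂ)) (isIrr_isClassFunction χ.2)
    have h2 : ∀ ψ : principalBlock M G, E χ ψ * E χ ψ = (p : ℂ) ^ d * (p : ℂ) ^ d *
        (contr p z (principalBlock M H) (χ : G → ℂ) ((ψ : IrrCharacter G) : G → ℂ) *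
          contr p z (principalBlock M H) ((ψ : IrrCharacter G) : G → ℂ) (χ : G → ℂ)) := by
      intro ψ
      conv_lhs => rw [hsym χ ψ]
      rw [← contr_symm hM ht hH (ψ : IrrCharacter G) χ]
      rw [hEdef]
      ring
    rw [Finset.sum_congr rfl fun ψ _ => h2 ψ, ← Finset.mul_sum, h1, hEdef]
    ring
  -- orthogonality with the degrees
  have horth : ∀ χ : IrrCharacter G, ∑ ψ : principalBlock M G, E χ ψ * ((ψ : IrrCharacter G) : G → ℂ) 1 = 0 := by
    intro χ
    have hwt : ∀ η : principalBlock M H, ∑ ψ : principalBlock M G,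
        conj (wt p z ((ψ : IrrCharacter G) : G → ℂ) ((η : IrrCharacter H) : H → ℂ)) *
          ((ψ : IrrCharacter G) : G → ℂ) 1 = 0 := by
      intro η
      have h1 : ∀ ψ : principalBlock M G,
          conj (wt p z ((ψ : IrrCharacter G) : G → ℂ) ((η : IrrCharacter H) : H → ℂ)) *
            ((ψ : IrrCharacter G) : G → ℂ) 1 = ∑ y : H with ¬ p ∣ orderOf y, (Nat.card H : ℂ)⁻¹ *
              ((η : IrrCharacter H) : H → ℂ) y * (((ψ : IrrCharacter G) : G → ℂ) 1 *
                conj (((ψ : IrrCharacter G) : G → ℂ) (z * (y : G)))) := by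
        intro ψ
        rw [wt_def, rg_def, pair_eq_sum_filter, map_mul, map_inv₀, Complex.conj_natCast, map_sum, Finset.mul_sum,
          Finset.sum_mul]
        refine Finset.sum_congr rfl fun y _ => ?_
        rw [map_mul, Complex.conj_conj]
        ring
      rw [Finset.sum_congr rfl fun ψ _ => h1 ψ, Finset.sum_comm]
      refine Finset.sum_eq_zero fun y hy => ?_
      rw [← Finset.mul_sum]
      have hy' : ¬ p ∣ orderOf y := (Finset.mem_filter.1 hy).2
      have hzy : p ∣ orderOf (z * (y : G)) := by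
        have hc : Commute z (y : G) :=
          (Subgroup.mem_centralizer_singleton_iff.1 (hH ▸ y.2)).symm
        have hcop : Nat.Coprime (orderOf z) (orderOf (y : G)) := by
          rw [hj]
          refine Nat.Coprime.pow_left _ ((Nat.Prime.coprime_iff_not_dvd hp).2 ?_)
          rw [Subgroup.orderOf_coe]
          exact hy'
        rw [hc.orderOf_mul_eq_mul_orderOf_of_coprime hcop, hj]
        exact (dvd_pow_self p hj0).mul_right _
      have h2 := S0907.result p M hM _ (Blocks.PrincipalSection.isPBlock_principalBlock (K := G)) 1 (z * (y : G))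
        (by rw [orderOf_one]; exact fun h => hp.one_lt.ne' (Nat.dvd_one.1 h)) hzy
      rw [finsum_mem_eq_toFinset_sum] at h2
      rw [← Finset.sum_subtype (principalBlock M G).toFinset (p := fun x => x ∈ principalBlock M G)
        (fun x => Set.mem_toFinset)
        (fun ψ : IrrCharacter G => (ψ : G → ℂ) 1 * conj ((ψ : G → ℂ) (z * (y : G)))), h2, mul_zero]
    have h3 : ∀ ψ : principalBlock M G, E χ ψ * ((ψ : IrrCharacter G) : G → ℂ) 1 =
        ∑ η : principalBlock M H, (p : ℂ) ^ d * wt p z (χ : G → ℂ) ((η : IrrCharacter H) : H → ℂ) *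
          (conj (wt p z ((ψ : IrrCharacter G) : G → ℂ) ((η : IrrCharacter H) : H → ℂ)) *
            ((ψ : IrrCharacter G) : G → ℂ) 1) := by
      intro ψ
      rw [hEdef]
      show (p : ℂ) ^ d * contr p z _ _ _ * _ = _
      rw [contr_def, Finset.mul_sum, Finset.sum_mul]
      refine Finset.sum_congr rfl fun η _ => ?_
      ring
    rw [Finset.sum_congr rfl fun ψ _ => h3 ψ, Finset.sum_comm]
    refine Finset.sum_eq_zero fun η _ => ?_
    rw [← Finset.mul_sum, hwt, mul_zero]
  choose! c hc using fun (χ : IrrCharacter G) (hχ : χ ∈ principalBlock M G) =>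
    (Nat.not_even_iff_odd.1 fun h => hall χ hχ (even_iff_two_dvd.1 h) : Odd (charDegree (χ : G → ℂ)))
  have hsum : ∀ χ : IrrCharacter G, ∃ a : ℂ, IsIntegral ℤ a ∧ (p : ℂ) ^ d * E χ χ = 2 * a := by
    intro χ
    obtain ⟨b, hb, h1⟩ := Cfsg.Agent.H809.Evn.sq_sum (Finset.univ : Finset (principalBlock M G))
      (fun ψ => E χ ψ) (fun ψ _ => hint χ ψ)
    set S := ∑ ψ : principalBlock M G, (c ψ : ℂ) * E χ ψ with hS
    have hSint : IsIntegral ℤ S := IsIntegral.sum _ fun ψ _ => (isIntegral_natCast _).mul (hint χ ψ)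
    have h2 : ∑ ψ : principalBlock M G, E χ ψ = -(2 * S) := by
      have h3 := horth χ
      have h4 : ∑ ψ : principalBlock M G, E χ ψ * ((ψ : IrrCharacter G) : G → ℂ) 1 =
          2 * S + ∑ ψ : principalBlock M G, E χ ψ := by
        rw [hS, Finset.mul_sum, ← Finset.sum_add_distrib]
        refine Finset.sum_congr rfl fun ψ _ => ?_
        rw [irr_one_eq_charDegree (ψ : IrrCharacter G).2, hc ψ ψ.2]
        push_cast
        ring
      rw [h4] at h3
      linear_combination h3
    refine ⟨2 * (S * S) - b, ((isIntegral_natCast 2).mul (hSint.mul hSint)).sub hb, ?_⟩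
    rw [← hidem χ]
    rw [h2] at h1
    linear_combination -h1
  choose a ha hae using hsum
  have htr := sum_contr_self hM hz hH hind
  have hfin : ((p ^ d * p ^ d * blockRank p (principalBlock M H) : ℕ) : ℂ) =
      2 * ∑ χ : principalBlock M G, a χ := by
    have h1 : ∀ χ : principalBlock M G, 2 * a χ = (p : ℂ) ^ d * (p : ℂ) ^ d *
        contr p z (principalBlock M H) ((χ : IrrCharacter G) : G → ℂ) ((χ : IrrCharacter G) : G → ℂ) := by
      intro χ
      rw [← hae, hEdef]
      ring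
    rw [Finset.mul_sum, Finset.sum_congr rfl fun χ _ => h1 χ, ← Finset.mul_sum, htr]
    push_cast
    ring
  have hev := even_of_two_mul (IsIntegral.sum _ fun (χ : principalBlock M G) _ => ha χ) hfin
  have hodd : Odd (p ^ d) := (hp.odd_of_ne_two hp2).pow
  rcases Nat.even_mul.1 hev with h | h
  · exact absurd h (Nat.not_even_iff_odd.2 (hodd.mul hodd))
  · exact h

/-- the principal block modulo a central `p`-subgroup -/
theorem defl_principalBlock (hM : IsPModular p M) {U : Subgroup G} [U.Normal] (hU : U ≤ Subgroup.center G)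
    (hp : IsPGroup p U) :
    Cfsg.Agent.H644.CentralQuot.defl U (principalBlock M G) = principalBlock M (G ⧸ U) := by
  have := Fintype.ofFinite G
  have hprime := isPrime_of_isPModular hM
  have hB : IsPBlock M (principalBlock M G) := Blocks.PrincipalSection.isPBlock_principalBlock
  have h1 := Cfsg.Agent.H644.CentralQuot.isPBlock_defl hM hU hp hB
  have h2 : IsPBlock M (principalBlock M (G ⧸ U)) := Blocks.PrincipalSection.isPBlock_principalBlock
  set o : IrrCharacter (G ⧸ U) := ⟨fun _ => 1, isIrrCharacter_one⟩ with ho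
  have h3 : o ∈ principalBlock M (G ⧸ U) := Blocks.PrincipalSection.one_mem_principalBlock
  have h4 : o ∈ Cfsg.Agent.H644.CentralQuot.defl U (principalBlock M G) := by
    rw [Cfsg.Agent.H644.CentralQuot.mem_defl]
    have h5 : Cfsg.Agent.H644.CentralQuot.infl U o = ⟨fun _ => 1, isIrrCharacter_one⟩ := by
      apply Subtype.ext
      rw [Cfsg.Agent.H644.CentralQuot.infl_coe]
    rw [h5]
    exact Blocks.PrincipalSection.one_mem_principalBlock
  rw [isPBlock_eq_blockOf h1 h4, isPBlock_eq_blockOf h2 h3]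

/-- an automorphism of order two of a cyclic `p`-group inverts it, `p` odd -/
theorem dvd_or {p m : ℕ} (hp : p.Prime) (hp2 : p ≠ 2) {k : ℤ} (h : ((p ^ m : ℕ) : ℤ) ∣ k * k - 1) :
    ((p ^ m : ℕ) : ℤ) ∣ k - 1 ∨ ((p ^ m : ℕ) : ℤ) ∣ k + 1 := by
  have hpp := Nat.prime_iff_prime_int.1 hp
  have e : k * k - 1 = (k - 1) * (k + 1) := by ring
  rw [e] at h
  push_cast at h ⊢
  by_cases h1 : (p : ℤ) ∣ k - 1
  · left
    have h2 : ¬ (p : ℤ) ∣ k + 1 := by
      intro h2
      have h3 : (p : ℤ) ∣ 2 := by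
        have := dvd_sub h2 h1
        have e : k + 1 - (k - 1) = 2 := by ring
        rwa [e] at this
      have h4 : p ∣ 2 := by exact_mod_cast h3
      exact hp2 ((Nat.prime_dvd_prime_iff_eq hp Nat.prime_two).1 h4)
    exact IsCoprime.dvd_of_dvd_mul_right (IsCoprime.pow_left ((Prime.coprime_iff_not_dvd hpp).2 h2)) h
  · right
    exact IsCoprime.dvd_of_dvd_mul_left (IsCoprime.pow_left ((Prime.coprime_iff_not_dvd hpp).2 h1)) h

/-- **Theorem R for `P = ⟨z, u⟩` abelian.** -/
theorem exists_even_of_real_pair (hM : IsPModular p M) (hp2 : p ≠ 2) (P : Sylow p G)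
    (hab : ∀ x ∈ (P : Subgroup G), ∀ y ∈ (P : Subgroup G), x * y = y * x) {z u : G} (hz : z ∈ (P : Subgroup G))
    (hz1 : z ≠ 1) (hr : IsConj z z⁻¹) (hgen : (P : Subgroup G) = Subgroup.closure {z, u})
    (hno : ∀ y ∈ Subgroup.normalizer ((P : Subgroup G) : Set G), y * z = z * y →
      (∀ v ∈ (P : Subgroup G), y * y * v = v * (y * y)) → ∀ v ∈ (P : Subgroup G), y * v = v * y) :
    ∃ χ : IrrCharacter G, χ ∈ principalBlock M G ∧ 2 ∣ charDegree (χ : G → ℂ) := by
  classical
  have hp : p.Prime := Fact.out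
  by_contra hcon
  push Not at hcon
  have hzp : ∃ k : ℕ, orderOf z = p ^ k := by
    obtain ⟨k, hk⟩ := IsPGroup.iff_orderOf.1 P.isPGroup' ⟨z, hz⟩
    exact ⟨k, by rw [← hk, Subgroup.orderOf_mk]⟩
  set H := Subgroup.centralizer ({z} : Set G) with hH
  have hPH : (P : Subgroup G) ≤ H := fun y hy => Subgroup.mem_centralizer_singleton_iff.2 (hab y hy z hz)
  have heven := even_blockRank_of_real hM hp2 hcon z hzp hz1 hr (H := H) rfl
  have hzH : z ∈ H := hPH hz
  have huP : u ∈ (P : Subgroup G) := by rw [hgen]; exact Subgroup.subset_closure (by simp)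
  have huH : u ∈ H := hPH huP
  let z' : H := ⟨z, hzH⟩
  let u' : H := ⟨u, huH⟩
  set U : Subgroup H := Subgroup.zpowers z' with hU
  have hUc : U ≤ Subgroup.center H := by
    rw [hU, Subgroup.zpowers_le, Subgroup.mem_center_iff]
    intro g
    exact Subtype.ext (Subgroup.mem_centralizer_singleton_iff.1 g.2)
  have hUn : U.Normal := ⟨fun a ha g => by
    rw [Subgroup.mem_center_iff.1 (hUc ha) g, mul_inv_cancel_right]
    exact ha⟩
  have hUp : IsPGroup p U := by
    obtain ⟨k, hk⟩ := hzp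
    refine IsPGroup.of_card (n := k) ?_
    rw [hU, Nat.card_zpowers, ← hk]
    exact (Subgroup.orderOf_coe z').symm
  have := Fintype.ofFinite G
  have := Fintype.ofFinite H
  have hrank : blockRank p (principalBlock M (H ⧸ U)) = blockRank p (principalBlock M H) := by
    rw [← defl_principalBlock hM hUc hUp]
    exact Cfsg.Agent.H644.CentralQuot.blockRank_defl hM hUc hUp Blocks.PrincipalSection.isPBlock_principalBlock
  rw [← hrank] at heven
  -- the Sylow subgroup of the quotient
  let PH : Sylow p H := P.subtype hPH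
  have hPHmem : ∀ y : H, y ∈ (PH : Subgroup H) ↔ (y : G) ∈ (P : Subgroup G) := fun y => Subgroup.mem_subgroupOf
  have hUP : U ≤ (PH : Subgroup H) := by
    rw [hU, Subgroup.zpowers_le, hPHmem]
    exact hz
  set Q : Sylow p (H ⧸ U) := PH.mapSurjective (QuotientGroup.mk'_surjective U) with hQ
  have hQc : (Q : Subgroup (H ⧸ U)) = (PH : Subgroup H).map (QuotientGroup.mk' U) := rfl
  have hQmem : ∀ y : H, QuotientGroup.mk' U y ∈ (Q : Subgroup (H ⧸ U)) ↔ y ∈ (PH : Subgroup H) := by
    intro y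
    rw [hQc]
    constructor
    · rintro ⟨v, hv, hvy⟩
      have h1 : v⁻¹ * y ∈ U := QuotientGroup.eq.1 hvy
      have h2 : y = v * (v⁻¹ * y) := by group
      rw [h2]
      exact mul_mem hv (hUP h1)
    · intro h
      exact Subgroup.mem_map_of_mem _ h
  have hgenQ : ∀ q ∈ (Q : Subgroup (H ⧸ U)), ∃ k : ℤ, q = QuotientGroup.mk' U u' ^ k := by
    rintro q ⟨v, hv, rfl⟩
    have hv' : (v : G) ∈ Subgroup.closure {z, u} := by
      rw [← hgen]; exact (hPHmem v).1 hv
    -- `v = z ^ i * u ^ j`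
    have key : ∀ w : G, w ∈ Subgroup.closure ({z, u} : Set G) → ∃ i j : ℤ, w = z ^ i * u ^ j := by
      intro w hw
      induction hw using Subgroup.closure_induction with
      | mem w hw =>
        rcases hw with rfl | hw
        · exact ⟨1, 0, by group⟩
        · rw [Set.mem_singleton_iff] at hw
          subst hw
          exact ⟨0, 1, by group⟩
      | one => exact ⟨0, 0, by group⟩
      | mul a b _ _ iha ihb =>
        obtain ⟨i, j, rfl⟩ := iha
        obtain ⟨i', j', rfl⟩ := ihb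
        refine ⟨i + i', j + j', ?_⟩
        have hc : Commute (z ^ i') (u ^ j) := Commute.zpow_zpow (show Commute z u from hab z hz u huP) _ _
        calc z ^ i * u ^ j * (z ^ i' * u ^ j') = z ^ i * (u ^ j * z ^ i') * u ^ j' := by group
          _ = z ^ i * (z ^ i' * u ^ j) * u ^ j' := by rw [hc.eq]
          _ = _ := by rw [zpow_add, zpow_add]; group
      | inv a _ iha =>
        obtain ⟨i, j, rfl⟩ := iha
        refine ⟨-i, -j, ?_⟩
        have hc : Commute (z ^ i) (u ^ j) := Commute.zpow_zpow (show Commute z u from hab z hz u huP) _ _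
        rw [hc.eq]
        group
    obtain ⟨i, j, hij⟩ := key _ hv'
    refine ⟨j, ?_⟩
    have h1 : v = z' ^ i * u' ^ j := Subtype.ext (by rw [hij]; rfl)
    have h2 : QuotientGroup.mk' U (z' ^ i) = 1 :=
      (QuotientGroup.eq_one_iff _).2 (Subgroup.zpow_mem_zpowers z' i)
    rw [h1, map_mul, h2, one_mul, map_zpow]
  have huQ : QuotientGroup.mk' U u' ∈ (Q : Subgroup (H ⧸ U)) := (hQmem u').2 ((hPHmem u').2 huP)
  have hQcyc : IsCyclic (Q : Subgroup (H ⧸ U)) := by
    refine ⟨⟨⟨QuotientGroup.mk' U u', huQ⟩, fun q => ?_⟩⟩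
    obtain ⟨k, hk⟩ := hgenQ q q.2
    exact ⟨k, Subtype.ext hk.symm⟩
  by_cases hd : p ∣ Nat.card (H ⧸ U)
  · rw [Cfsg.Agent.H734.KB.rank_cyclic hM Q hQcyc hd] at heven
    set C := Subgroup.centralizer ((Q : Subgroup (H ⧸ U)) : Set (H ⧸ U)) with hC
    set N := Subgroup.normalizer ((Q : Subgroup (H ⧸ U)) : Set (H ⧸ U)) with hN
    have hCn : (C.subgroupOf N).Normal := by
      refine ⟨fun a ha g => ?_⟩
      rw [Subgroup.mem_subgroupOf, hC, Subgroup.mem_centralizer_iff] at ha ⊢
      intro q hq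
      have h1 : (g : H ⧸ U)⁻¹ * q * g ∈ (Q : Subgroup (H ⧸ U)) := by
        have := (Subgroup.mem_normalizer_iff.1 (inv_mem g.2) q).1 hq
        rwa [inv_inv] at this
      have h2 := ha _ h1
      push_cast
      calc q * ((g : H ⧸ U) * a * (g : H ⧸ U)⁻¹) = g * (((g : H ⧸ U)⁻¹ * q * g) * a) * (g : H ⧸ U)⁻¹ := by group
        _ = g * (a * ((g : H ⧸ U)⁻¹ * q * g)) * (g : H ⧸ U)⁻¹ := by rw [h2]
        _ = _ := by group
    have hcard : 2 ∣ Nat.card (N ⧸ C.subgroupOf N) := heven.two_dvd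
    have : Fact (Nat.Prime 2) := ⟨Nat.prime_two⟩
    obtain ⟨g, hg⟩ := exists_prime_orderOf_dvd_card' 2 hcard
    obtain ⟨⟨y₀, hy₀⟩, rfl⟩ := QuotientGroup.mk_surjective g
    have hyC : y₀ ∉ C := by
      intro h
      have h1 : (QuotientGroup.mk (⟨y₀, hy₀⟩ : N) : N ⧸ C.subgroupOf N) = 1 :=
        (QuotientGroup.eq_one_iff _).2 (Subgroup.mem_subgroupOf.2 h)
      rw [h1, orderOf_one] at hg
      exact absurd hg (by norm_num)
    have hyC2 : y₀ * y₀ ∈ C := by
      have h1 := pow_orderOf_eq_one (QuotientGroup.mk (⟨y₀, hy₀⟩ : N) : N ⧸ C.subgroupOf N)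
      rw [hg, ← QuotientGroup.mk_pow, QuotientGroup.eq_one_iff, Subgroup.mem_subgroupOf] at h1
      rw [pow_two] at h1
      exact h1
    obtain ⟨y, rfl⟩ := QuotientGroup.mk'_surjective U y₀
    set π := QuotientGroup.mk' U with hπ
    -- `y` normalises `P`
    have hyP : ∀ v : H, v ∈ (PH : Subgroup H) ↔ y * v * y⁻¹ ∈ (PH : Subgroup H) := by
      intro v
      rw [← hQmem, ← hQmem, map_mul, map_mul, map_inv]
      exact Subgroup.mem_normalizer_iff.1 hy₀ _
    -- the action on `Q`
    obtain ⟨k, hk⟩ := hgenQ _ ((Subgroup.mem_normalizer_iff.1 hy₀ _).1 huQ)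
    have hk' : ∀ n : ℤ, π y * (π u') ^ n * (π y)⁻¹ = (π u') ^ (k * n) := by
      intro n
      rw [zpow_mul, ← hk, conj_zpow]
    have hk2 : π u' ^ (k * k) = π u' := by
      have h1 := Subgroup.mem_centralizer_iff.1 hyC2 _ huQ
      have h2 := hk' k
      rw [← hk] at h2
      rw [← h2]
      calc π y * (π y * π u' * (π y)⁻¹) * (π y)⁻¹ = π y * π y * π u' * (π y * π y)⁻¹ := by group
        _ = π u' * (π y * π y) * (π y * π y)⁻¹ := by rw [h1]
        _ = π u' := by group
    obtain ⟨m, hm⟩ : ∃ m : ℕ, orderOf (π u') = p ^ m := by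
      obtain ⟨m, hm⟩ := IsPGroup.iff_orderOf.1 Q.isPGroup' ⟨π u', huQ⟩
      exact ⟨m, by rw [← hm, Subgroup.orderOf_mk]⟩
    have hdv : ((p ^ m : ℕ) : ℤ) ∣ k * k - 1 := by
      rw [← hm, orderOf_dvd_iff_zpow_eq_one, zpow_sub, hk2, zpow_one, mul_inv_cancel]
    have hinv : ∀ q ∈ (Q : Subgroup (H ⧸ U)), π y * q * (π y)⁻¹ = q⁻¹ := by
      rcases dvd_or hp hp2 hdv with h | h
      · exfalso
        apply hyC
        rw [hC, Subgroup.mem_centralizer_iff]
        intro q hq
        obtain ⟨n, rfl⟩ := hgenQ q hq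
        have h1 : π u' ^ k = π u' := by
          rw [← hm, orderOf_dvd_iff_zpow_eq_one, zpow_sub, zpow_one, mul_inv_eq_one] at h
          exact h
        have h2 := hk' n
        rw [zpow_mul, h1] at h2
        calc π u' ^ n * π y = π y * π u' ^ n * (π y)⁻¹ * π y := by rw [h2]
          _ = π y * π u' ^ n := by group
      · intro q hq
        obtain ⟨n, rfl⟩ := hgenQ q hq
        have h1 : π u' ^ k = (π u')⁻¹ := by
          rw [← hm, orderOf_dvd_iff_zpow_eq_one, zpow_add, zpow_one] at h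
          exact eq_inv_of_mul_eq_one_left h
        rw [hk', zpow_mul, h1, inv_zpow]
    -- `y ^ 2` centralises `P`
    have hyy : ∀ v ∈ (P : Subgroup G), (y : G) * y * v = v * (y * y) := by
      intro v hv
      let v' : H := ⟨v, hPH hv⟩
      have hv' : v' ∈ (PH : Subgroup H) := (hPHmem v').2 hv
      have h1 := hinv (π v') ((hQmem v').2 hv')
      have h2 : π (y * v' * y⁻¹) = π v'⁻¹ := by rw [map_mul, map_mul, map_inv, map_inv, h1]
      have h3 : (y * v' * y⁻¹)⁻¹ * v'⁻¹ ∈ U := QuotientGroup.eq.1 h2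
      set c := (y * v' * y⁻¹)⁻¹ * v'⁻¹ with hc
      have hcc : ∀ g : H, g * c = c * g := Subgroup.mem_center_iff.1 (hUc h3)
      have h4 : y * v' * y⁻¹ = v'⁻¹ * c⁻¹ := by rw [hc]; group
      have hcc' : ∀ g : H, g * c⁻¹ = c⁻¹ * g := fun g => ((show Commute g c from hcc g).inv_right).eq
      have h5 : y * (y * v' * y⁻¹) * y⁻¹ = v' := by
        rw [h4]
        calc y * (v'⁻¹ * c⁻¹) * y⁻¹ = y * v'⁻¹ * (c⁻¹ * y⁻¹) := by group
          _ = y * v'⁻¹ * (y⁻¹ * c⁻¹) := by rw [hcc']
          _ = (y * v' * y⁻¹)⁻¹ * c⁻¹ := by group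
          _ = (v'⁻¹ * c⁻¹)⁻¹ * c⁻¹ := by rw [h4]
          _ = c * (v' * c⁻¹) := by group
          _ = v' := by rw [hcc']; group
      have h6 : y * y * v' = v' * (y * y) := by
        calc y * y * v' = y * (y * v' * y⁻¹) * y⁻¹ * (y * y) := by group
          _ = v' * (y * y) := by rw [h5]
      exact congrArg Subtype.val h6
    have hyN : (y : G) ∈ Subgroup.normalizer ((P : Subgroup G) : Set G) := by
      rw [Subgroup.mem_normalizer_iff]
      intro g
      constructor
      · intro hg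
        have := (hyP ⟨g, hPH hg⟩).1 ((hPHmem _).2 hg)
        exact (hPHmem _).1 this
      · intro hg
        have h5 : g ∈ H := by
          have h6 := hPH hg
          have h7 := mul_mem (mul_mem (inv_mem y.2) h6) y.2
          have h8 : (y : G)⁻¹ * (y * g * (y : G)⁻¹) * y = g := by group
          rwa [h8] at h7
        exact (hPHmem ⟨g, h5⟩).1 ((hyP ⟨g, h5⟩).2 ((hPHmem _).2 hg))
    have hcent := hno y hyN (Subgroup.mem_centralizer_singleton_iff.1 y.2) hyy
    apply hyC
    rw [hC, Subgroup.mem_centralizer_iff]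
    rintro _ ⟨v, hv, rfl⟩
    have h1 : y * v = v * y := Subtype.ext (hcent v ((hPHmem v).1 hv))
    rw [← map_mul, ← map_mul, h1]
  · -- `P = ⟨z⟩`
    have := Fintype.ofFinite (H ⧸ U)
    have hone : blockRank p (principalBlock M (H ⧸ U)) = 1 := by
      refine S4646.rank_one_of_compl hM ?_
      obtain ⟨Q₀⟩ : Nonempty (Sylow p (H ⧸ U)) := inferInstance
      refine ⟨Q₀, ⊤, inferInstance, ?_⟩
      have h1 : (Q₀ : Subgroup (H ⧸ U)) = ⊥ := by
        rw [← Subgroup.card_eq_one, Q₀.card_eq_multiplicity, Nat.factorization_eq_zero_of_not_dvd hd, pow_zero]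
      rw [h1]
      exact Subgroup.isComplement'_top_bot
    rw [hone] at heven
    exact absurd heven (by decide)

theorem evAt_of_real_pair (hp2 : p ≠ 2) (P : Sylow p G)
    (hab : ∀ x ∈ (P : Subgroup G), ∀ y ∈ (P : Subgroup G), x * y = y * x) {z u : G} (hz : z ∈ (P : Subgroup G))
    (hz1 : z ≠ 1) (hr : IsConj z z⁻¹) (hgen : (P : Subgroup G) = Subgroup.closure {z, u})
    (hno : ∀ y ∈ Subgroup.normalizer ((P : Subgroup G) : Set G), y * z = z * y →
      (∀ v ∈ (P : Subgroup G), y * y * v = v * (y * y)) → ∀ v ∈ (P : Subgroup G), y * v = v * y) :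
    Cfsg.Agent.H892.EP.EvAt p G := fun _ hM => exists_even_of_real_pair hM hp2 P hab hz hz1 hr hgen hno

end main

end Cfsg.Agent.H790.EP
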