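import Cfsg.Agent.H790.EP.NrmTor
import Cfsg.Agent.H790.EP.ThmR

/-!
# S4929: groups `D.group F` whose Sylow `p`-subgroups are homocyclic of rank two in a torus (helper790)

`evAt_rank2` : `w ∈ W`, `E` an endomorphism of the root lattice with `E w = q E mod p ^ a` (`E = Φ(X) / (X - q)` at `w`),
`-1 ∈ W`, `p ∤ |W|`, `v_p |D.group F| ≤ 2 a`, at most seven involutions of `W` commute with `w`.
-/

set_option autoImplicit false
set_option linter.unusedSectionVars false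

namespace Cfsg.Agent.H790.EP.Rank2

open CoxeterSystem Cfsg Cfsg.Lie Cfsg.Lie.ChevalleyDatum
open Cfsg.Agent.ChevalleyStructure Cfsg.Agent.ChevalleyStructure.Elts Cfsg.Agent.ChevalleyStructure.CoxeterGeom
  Cfsg.Agent.ChevalleyStructure.CoxeterGeomTypes Cfsg.Agent.ChevalleyStructure.NPerm
open Cfsg.Agent.Tits.Roots Cfsg.Agent.Tits.Core Cfsg.Agent.Nodes Cfsg.Agent.Nodes.Reps Cfsg.Agent.Nodes.BNOf
  Cfsg.Agent.Nodes.RGDChev Cfsg.Agent.Nodes.Bruhat
open Cfsg.Agent.KFacts.RgdField Cfsg.Agent.KFacts.RgdChevCoord Cfsg.Agent.BpExc.TorCent Cfsg.Agent.BpExc.TorChev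
open Cfsg.Agent.GpExc.Field Cfsg.Agent.BpExc.Tow Cfsg.Agent.BpExc.TowChev Cfsg.Agent.BpExc.Fr
  Cfsg.Agent.BpExc.LangFr Cfsg.Agent.LangThm Cfsg.Agent.BpExc Cfsg.Agent.H129.TorusChar Cfsg.Agent.H129.TorusMain
  Cfsg.Agent.H129.TorusUntw Cfsg.Agent.ChevStructure.FieldMap Cfsg.Agent.BpExc.EmbSplit
open Cfsg.Agent.H378.TorDual Cfsg.Agent.H130.TorEmb Cfsg.Agent.H790.EP.NrmTor Cfsg.Agent.H720.TorusReal
open Cfsg.Agent.H892.EP (EvAt)

universe u

variable {D : ChevalleyDatum} {l : ℕ} {M : CoxeterMatrix (Fin l)} (hp : IsType D l M)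
  {W : Type*} [Group W] (cs : CoxeterSystem M W)

/-- the character `x ↦ ζ ^ y (E x)` -/
def psi {k : Type u} [Field k] (ζ : kˣ) (y : (Fin l → ℤ) →ₗ[ℤ] ℤ) : Ch l k where
  toFun x := ζ ^ y (Multiplicative.toAdd x)
  map_one' := by
    rw [toAdd_one, map_zero, zpow_zero]
  map_mul' a b := by
    rw [toAdd_mul, map_add, zpow_add]

theorem psi_apply {k : Type u} [Field k] (ζ : kˣ) (y : (Fin l → ℤ) →ₗ[ℤ] ℤ) (x : Fin l → ℤ) :
    psi ζ y (Multiplicative.ofAdd x) = ζ ^ y x := rfl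

theorem eq_one_of_coprime {G : Type*} [Group G] {x : G} {a b : ℕ} (ha : x ^ a = 1) (hb : x ^ b = 1)
    (h : a.Coprime b) : x = 1 := by
  have h1 : orderOf x ∣ a.gcd b := Nat.dvd_gcd (orderOf_dvd_of_pow_eq_one ha) (orderOf_dvd_of_pow_eq_one hb)
  rw [h, Nat.dvd_one, orderOf_eq_one_iff] at h1
  exact h1

set_option maxHeartbeats 4000000 in
/-- **Theorem R for homocyclic Sylow subgroups of rank two in a torus.** -/
theorem evAt_rank2 [Finite W] {F : Type u} [Field F] [Fintype F] {q : ℕ} (hq : Fintype.card F = q) {p : ℕ}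
    [hpp : Fact p.Prime] (hp2 : p ≠ 2) (hp8 : 8 ≤ p) (hpq : ¬ p ∣ q) (hpW : ¬ p ∣ Nat.card W)
    {B : Fin l → Fin l → ℤ} (hB : InvC D l 1 B) {a : ℕ} (ha : 0 < a)
    (hcard : (Nat.card ↥(D.group F)).factorization p ≤ 2 * a) {w w₀ : W}
    (hneg : ∀ x, rep cs hp.isCartan w₀ x = -x) (E : Module.End ℤ (Fin l → ℤ))
    (hE : ∀ x, ∃ x', E (rep cs hp.isCartan w x) = (q : ℤ) • E x + ((p ^ a : ℕ) : ℤ) • x')
    (x₀ x₁ : Fin l → ℤ) (y₀ y₁ : (Fin l → ℤ) →ₗ[ℤ] ℤ)
    (h00 : ((p ^ a : ℕ) : ℤ) ∣ y₀ (E x₀) - 1) (h10 : ((p ^ a : ℕ) : ℤ) ∣ y₁ (E x₀)) (h11 : ((p ^ a : ℕ) : ℤ) ∣ y₁ (E x₁) - 1)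
    (hroot : ∀ α, IsRoot cs hp.isCartan α → ∃ y : (Fin l → ℤ) →ₗ[ℤ] ℤ, ¬ (p : ℤ) ∣ y (E α))
    (hinv : ∀ g : Fin 8 → W, (∀ j, g j * g j = 1 ∧ g j * w = w * g j ∧ g j ≠ 1) → ∃ i j, i < j ∧ g i = g j) :
    EvAt p ↥(D.group F) := by
  obtain ⟨r, e, hr, hrF, hrk, he, rfl, hk⟩ := exists_closure hq
  let k := AlgebraicClosure F
  let f : F →+* k := algebraMap F k
  let hN : NSys M (TT D k) (nc hp k) := nsys_of_locFin hp cs hk r
  have hFr := fr_phi (k := k) (p := r) (e := e) hp cs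
  have hσ := isFrob_phi (D := D) (k := k) (p := r) (e := e)
  obtain ⟨g, hg⟩ := exists_rp cs hN w
  obtain ⟨z, hz⟩ := lang_all hp cs he hσ hFr 1 g
  rw [map_one, one_mul] at hz
  set σ := phi D k r e with hσdef
  have hσz : σ z = z * g := by rw [hz]; group
  set N : ℕ := p ^ a with hNdef
  have hpr : p ≠ r := by
    rintro rfl
    exact hpq (dvd_pow_self _ he.ne')
  have hN0 : 0 < N := pow_pos hpp.out.pos a
  have hNk : ((N : ℕ) : k) ≠ 0 := by
    rw [Ne, CharP.cast_eq_zero_iff k r]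
    intro h
    exact hpr ((Nat.prime_dvd_prime_iff_eq hr.out hpp.out).1 (hr.out.dvd_of_dvd_pow h)).symm
  have hNne : NeZero ((N : ℕ) : k) := ⟨hNk⟩
  obtain ⟨ζ', hζ'⟩ := HasEnoughRootsOfUnity.exists_primitiveRoot k N
  obtain ⟨ζ, rfl⟩ := hζ'.isUnit hN0.ne'
  have hζ : IsPrimitiveRoot ζ N := IsPrimitiveRoot.coe_units_iff.1 hζ'
  -- the elements of the torus
  let t : ((Fin l → ℤ) →ₗ[ℤ] ℤ) → ↥(D.group k) := fun y => tor hp hB one_ne_zero (psi ζ (y ∘ₗ E))
  have htT : ∀ y, t y ∈ TT D k := fun y => tor_mem hp hB one_ne_zero _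
  have hcX : ∀ y x, cX hp (t y) x = ((ζ ^ y (E x) : kˣ) : k) := fun y x => by
    show cX hp (tor hp hB one_ne_zero _) x = _
    rw [cX_tor, psi_apply]
    rfl
  have htw : ∀ y, g * σ (t y) * g⁻¹ = t y := by
    intro y
    rw [tau_iff hp cs hk hσ hFr hg (htT y)]
    intro x
    rw [theta_apply, hcX, hcX]
    obtain ⟨x', hx'⟩ := hE x
    show ((ζ ^ y (E (rep cs hp.isCartan w x)) : kˣ) : k) = _
    rw [hx', ← Units.val_pow_eq_pow_val]
    congr 1
    rw [map_add, map_smul, map_smul, smul_eq_mul, smul_eq_mul, zpow_add, zpow_mul ζ ((N : ℕ) : ℤ), zpow_natCast ζ N,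
      hζ.pow_eq_one, one_zpow, mul_one, mul_comm, zpow_mul, zpow_natCast]
  have htN : ∀ y, t y ^ N = 1 := by
    intro y
    refine cX_inj hp (pow_mem (htT y) N) (one_mem _) fun i => ?_
    rw [cX_pow hp (htT y), hcX, cX_one, ← Units.val_pow_eq_pow_val, ← zpow_natCast, ← zpow_mul, mul_comm, zpow_mul,
      zpow_natCast, hζ.pow_eq_one, one_zpow, Units.val_one]
  -- the subgroup `P'`
  let P' : Subgroup ↥(D.group k) :=
    { carrier := {s | s ∈ TT D k ∧ g * σ s * g⁻¹ = s ∧ s ^ N = 1}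
      mul_mem' := by
        rintro s s' ⟨h1, h2, h3⟩ ⟨h1', h2', h3'⟩
        refine ⟨mul_mem h1 h1', ?_, ?_⟩
        · rw [map_mul]
          calc g * (σ s * σ s') * g⁻¹ = (g * σ s * g⁻¹) * (g * σ s' * g⁻¹) := by group
            _ = s * s' := by rw [h2, h2']
        · have hc : Commute s s' := TT_comm hp h1 h1'
          rw [hc.mul_pow, h3, h3', one_mul]
      one_mem' := ⟨one_mem _, by rw [map_one]; group, one_pow _⟩
      inv_mem' := by
        rintro s ⟨h1, h2, h3⟩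
        refine ⟨inv_mem h1, ?_, by rw [inv_pow, h3, inv_one]⟩
        rw [map_inv]
        calc g * (σ s)⁻¹ * g⁻¹ = (g * σ s * g⁻¹)⁻¹ := by group
          _ = s⁻¹ := by rw [h2] }
  have hP' : ∀ s, s ∈ P' ↔ s ∈ TT D k ∧ g * σ s * g⁻¹ = s ∧ s ^ N = 1 := fun s => Iff.rfl
  have htP : ∀ y, t y ∈ P' := fun y => ⟨htT y, htw y, htN y⟩
  -- the embedding
  let θ : ↥(D.group F) →* ↥(D.group k) := (MulAut.conj z⁻¹).toMonoidHom.comp (emb hp.inList f)
  have hθ : ∀ x, θ x = z⁻¹ * emb hp.inList f x * z := fun x => by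
    show z⁻¹ * emb hp.inList f x * z⁻¹⁻¹ = _
    rw [inv_inv]
  have hθi : Function.Injective θ := (MulAut.conj z⁻¹).injective.comp (emb_injective hp.inList f)
  have hθσ : ∀ x, g * σ (θ x) * g⁻¹ = θ x := by
    intro x
    rw [hθ, map_mul, map_mul, map_inv, hσz, phi_emb hp f hq]
    group
  have hsurj : ∀ y, g * σ y * g⁻¹ = y → ∃ x, θ x = y := by
    intro y hy
    have h1 : σ (z * y * z⁻¹) = z * y * z⁻¹ := by
      rw [map_mul, map_mul, map_inv, hσz]
      calc z * g * σ y * (z * g)⁻¹ = z * (g * σ y * g⁻¹) * z⁻¹ := by group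
        _ = z * y * z⁻¹ := by rw [hy]
    obtain ⟨x, hx⟩ := fix_range hp cs f hq hB one_ne_zero (fun b => ⟨b, pow_one b⟩) h1
    refine ⟨x, ?_⟩
    rw [hθ, hx]
    group
  -- the subgroup `P`
  let P : Subgroup ↥(D.group F) := P'.comap θ
  have hPP : ∀ x, x ∈ P ↔ θ x ∈ P' := fun x => Iff.rfl
  have hPp : IsPGroup p P := by
    intro x
    refine ⟨a, Subtype.ext (hθi ?_)⟩
    rw [Subgroup.coe_pow, map_pow, Subgroup.coe_one, map_one]
    exact x.2.2.2
  obtain ⟨Q, hPQ⟩ := hPp.exists_le_sylow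
  have hQcard : Nat.card ↥(Q : Subgroup ↥(D.group F)) ≤ N * N := by
    rw [Sylow.card_eq_multiplicity, hNdef, ← pow_add, ← two_mul]
    exact Nat.pow_le_pow_right hpp.out.pos hcard
  have hζd : ∀ m n : ℤ, ζ ^ m = ζ ^ n → (N : ℤ) ∣ m - n := by
    intro m n h
    rw [← hζ.zpow_eq_one_iff_dvd, zpow_sub, h, mul_inv_cancel]
  have hζd' : ∀ m n : ℤ, (N : ℤ) ∣ m - n → ζ ^ m = ζ ^ n := by
    intro m n h
    rw [← hζ.zpow_eq_one_iff_dvd, zpow_sub] at h
    exact mul_inv_eq_one.1 h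
  -- generation
  have hgen : ∀ (m : ℤ) (X U : ↥(D.group F)), θ X = t (y₀ + m • y₁) → θ U = t y₁ →
      ∀ x ∈ (Q : Subgroup ↥(D.group F)), ∃ i j : ℕ, x = X ^ i * U ^ j := by
    intro m X U hX hU
    have hXQ : X ∈ (Q : Subgroup ↥(D.group F)) := hPQ (by rw [hPP, hX]; exact htP _)
    have hUQ : U ∈ (Q : Subgroup ↥(D.group F)) := hPQ (by rw [hPP, hU]; exact htP _)
    let Ψ : Fin N × Fin N → ↥(Q : Subgroup ↥(D.group F)) := fun ij =>
      ⟨X ^ (ij.1 : ℕ) * U ^ (ij.2 : ℕ), mul_mem (pow_mem hXQ _) (pow_mem hUQ _)⟩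
    have hchar : ∀ i j : ℕ, ∀ x, cX hp (θ (X ^ i * U ^ j)) x =
        ((ζ ^ ((y₀ (E x) + m * y₁ (E x)) * i + y₁ (E x) * j) : kˣ) : k) := by
      intro i j x
      rw [map_mul, map_pow, map_pow, hX, hU, cX_mul hp (pow_mem (htT _) _) (pow_mem (htT _) _),
        cX_pow hp (htT _), cX_pow hp (htT _), hcX, hcX, ← Units.val_pow_eq_pow_val, ← Units.val_pow_eq_pow_val,
        ← Units.val_mul]
      congr 1
      rw [zpow_add, zpow_mul ζ _ (i : ℤ), zpow_mul ζ _ (j : ℤ), zpow_natCast, zpow_natCast]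
      rfl
    have hinj : Function.Injective Ψ := by
      rintro ⟨i, j⟩ ⟨i', j'⟩ h
      have h1 : X ^ (i : ℕ) * U ^ (j : ℕ) = X ^ (i' : ℕ) * U ^ (j' : ℕ) := congrArg Subtype.val h
      have h2 : ∀ x, (N : ℤ) ∣ ((y₀ (E x) + m * y₁ (E x)) * i + y₁ (E x) * j) -
          ((y₀ (E x) + m * y₁ (E x)) * i' + y₁ (E x) * j') := by
        intro x
        apply hζd
        have h3 := hchar i j x
        rw [h1, hchar] at h3
        exact (Units.ext h3).symm
      have h3 : (N : ℤ) ∣ (i : ℤ) - i' := by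
        have h4 := h2 x₀
        have e1 : ((i : ℕ) : ℤ) - ((i' : ℕ) : ℤ) = ((y₀ (E x₀) + m * y₁ (E x₀)) * i + y₁ (E x₀) * j) -
          ((y₀ (E x₀) + m * y₁ (E x₀)) * i' + y₁ (E x₀) * j') - (y₀ (E x₀) - 1) * (i - i') -
          y₁ (E x₀) * (m * (i - i') + (j - j')) := by ring
        rw [e1]
        exact dvd_sub (dvd_sub h4 (h00.mul_right _)) (h10.mul_right _)
      have h5 : i = i' := by
        apply Fin.ext
        have h6 := i.2
        have h7 := i'.2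
        have h8 := Int.eq_zero_of_abs_lt_dvd h3 (by rw [abs_lt]; constructor <;> omega)
        omega
      subst h5
      have h9 : (N : ℤ) ∣ (j : ℤ) - j' := by
        have h4 := h2 x₁
        have e1 : ((j : ℕ) : ℤ) - ((j' : ℕ) : ℤ) = ((y₀ (E x₁) + m * y₁ (E x₁)) * i + y₁ (E x₁) * j) -
          ((y₀ (E x₁) + m * y₁ (E x₁)) * i + y₁ (E x₁) * j') - (y₁ (E x₁) - 1) * (j - j') := by ring
        rw [e1]
        exact dvd_sub h4 (h11.mul_right _)
      have h10' : j = j' := by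
        apply Fin.ext
        have h6 := j.2
        have h7 := j'.2
        have h8 := Int.eq_zero_of_abs_lt_dvd h9 (by rw [abs_lt]; constructor <;> omega)
        omega
      rw [h10']
    have hbij : Function.Bijective Ψ := by
      refine hinj.bijective_of_nat_card_le ?_
      rw [Nat.card_prod, Nat.card_fin]
      exact hQcard
    intro x hx
    obtain ⟨⟨i, j⟩, hij⟩ := hbij.2 ⟨x, hx⟩
    exact ⟨i, j, (congrArg Subtype.val hij).symm⟩
  -- `Q = P`
  obtain ⟨X₀, hX₀⟩ := hsurj (t (y₀ + (0 : ℤ) • y₁)) (htw _)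
  obtain ⟨U, hU⟩ := hsurj (t y₁) (htw _)
  have hUP : U ∈ P := by rw [hPP, hU]; exact htP _
  have hQP : (Q : Subgroup ↥(D.group F)) = P := by
    refine le_antisymm (fun x hx => ?_) hPQ
    obtain ⟨i, j, rfl⟩ := hgen 0 X₀ U hX₀ hU x hx
    exact mul_mem (pow_mem (by rw [hPP, hX₀]; exact htP _) i) (pow_mem hUP j)
  -- `v` fixing all characters is trivial
  have hfix : ∀ v : W, (∀ s ∈ P', ∀ x, cX hp s (rep cs hp.isCartan v x) = cX hp s x) → v = 1 := by
    intro v hv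
    by_contra hne
    obtain ⟨α, hα, hsum⟩ := BpExc.Fix.exists_root_sum_eq_zero (cs := cs) (h := hp.isCartan) hne (orderOf_pos v)
      (pow_orderOf_eq_one v)
    obtain ⟨y, hy⟩ := hroot α hα
    have hvp : ∀ i : ℕ, (ζ ^ y (E (rep cs hp.isCartan (v ^ i) α)) : kˣ) = ζ ^ y (E α) := by
      intro i
      apply Units.ext
      rw [← hcX, ← hcX]
      induction i with
      | zero => rw [pow_zero, map_one]; rfl
      | succ i ih =>
        rw [pow_succ', map_mul]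
        show cX hp (t y) (rep cs hp.isCartan v (rep cs hp.isCartan (v ^ i) α)) = _
        rw [hv _ (htP y), ih]
    have h1 : (ζ ^ y (E α)) ^ orderOf v = 1 := by
      have h2 := congrArg (fun x => ζ ^ y (E x)) hsum
      simp only [map_sum, map_zero, zpow_zero] at h2
      have h3 : ∀ s : Finset ℕ, ζ ^ (∑ i ∈ s, y (E (rep cs hp.isCartan (v ^ i) α))) = (ζ ^ y (E α)) ^ s.card := by
        classical
        intro s
        induction s using Finset.induction_on with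
        | empty => rw [Finset.sum_empty, zpow_zero, Finset.card_empty, pow_zero]
        | insert b s hb ih =>
          rw [Finset.sum_insert hb, zpow_add, ih, hvp, Finset.card_insert_of_notMem hb, pow_succ']
      rw [h3, Finset.card_range] at h2
      exact h2
    have h2 : (ζ ^ y (E α)) ^ N = 1 := by
      rw [← zpow_natCast, ← zpow_mul, mul_comm, zpow_mul, zpow_natCast, hζ.pow_eq_one, one_zpow]
    have h3 : ζ ^ y (E α) = 1 := by
      refine eq_one_of_coprime h1 h2 ?_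
      rw [hNdef]
      refine Nat.Coprime.pow_right a ?_
      exact ((Nat.Prime.coprime_iff_not_dvd hpp.out).2 fun h2 => hpW (h2.trans (orderOf_dvd_natCard v))).symm
    rw [hζ.zpow_eq_one_iff_dvd] at h3
    apply hy
    refine dvd_trans ?_ h3
    rw [hNdef]
    exact_mod_cast dvd_pow_self p ha.ne'
  -- the choice of the line
  have hbad : ∃ j : Fin 8, ∀ v : W, v * v = 1 → v * w = w * v →
      (∀ x, cX hp (t (y₀ + ((j : ℕ) : ℤ) • y₁)) (rep cs hp.isCartan v x) = cX hp (t (y₀ + ((j : ℕ) : ℤ) • y₁)) x) →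
      v = 1 := by
    by_contra hcon
    push Not at hcon
    choose v hv1 hv2 hv3 hv4 using hcon
    obtain ⟨i, j, hij, e1⟩ := hinv v fun j => ⟨hv1 j, hv2 j, hv4 j⟩
    apply hv4 i
    apply hfix
    have hd : ∀ (j : Fin 8) (x : Fin l → ℤ), (N : ℤ) ∣ (y₀ (E (rep cs hp.isCartan (v j) x)) +
        ((j : ℕ) : ℤ) * y₁ (E (rep cs hp.isCartan (v j) x))) - (y₀ (E x) + ((j : ℕ) : ℤ) * y₁ (E x)) := by
      intro j x
      apply hζd
      have h1 := hv3 j x
      rw [hcX, hcX] at h1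
      exact Units.ext h1
    have hd1 : ∀ x, (N : ℤ) ∣ y₁ (E (rep cs hp.isCartan (v i) x)) - y₁ (E x) := by
      intro x
      have h1 := hd i x
      have h2 := hd j x
      rw [← e1] at h2
      have h3 := dvd_sub h2 h1
      have h4 : (N : ℤ) ∣ (((j : ℕ) : ℤ) - ((i : ℕ) : ℤ)) *
          (y₁ (E (rep cs hp.isCartan (v i) x)) - y₁ (E x)) := by
        have e2 : (((j : ℕ) : ℤ) - ((i : ℕ) : ℤ)) * (y₁ (E (rep cs hp.isCartan (v i) x)) - y₁ (E x)) =
          (y₀ (E (rep cs hp.isCartan (v i) x)) + ((j : ℕ) : ℤ) * y₁ (E (rep cs hp.isCartan (v i) x))) -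
          (y₀ (E x) + ((j : ℕ) : ℤ) * y₁ (E x)) - ((y₀ (E (rep cs hp.isCartan (v i) x)) +
          ((i : ℕ) : ℤ) * y₁ (E (rep cs hp.isCartan (v i) x))) - (y₀ (E x) + ((i : ℕ) : ℤ) * y₁ (E x))) := by ring
        rw [e2]; exact h3
      refine IsCoprime.dvd_of_dvd_mul_left ?_ h4
      have hlt : (i : ℕ) < (j : ℕ) := hij
      have e3 : ((j : ℕ) : ℤ) - ((i : ℕ) : ℤ) = (((j : ℕ) - (i : ℕ) : ℕ) : ℤ) := by
        rw [Nat.cast_sub hlt.le]
      rw [e3, hNdef, Nat.isCoprime_iff_coprime]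
      refine Nat.Coprime.pow_left a ?_
      rw [Nat.Prime.coprime_iff_not_dvd hpp.out]
      intro h5
      have h6 := Nat.le_of_dvd (by omega) h5
      have h7 := j.2
      omega
    have hd0 : ∀ x, (N : ℤ) ∣ y₀ (E (rep cs hp.isCartan (v i) x)) - y₀ (E x) := by
      intro x
      have h1 := hd i x
      have h2 := hd1 x
      have e2 : y₀ (E (rep cs hp.isCartan (v i) x)) - y₀ (E x) =
        ((y₀ (E (rep cs hp.isCartan (v i) x)) + ((i : ℕ) : ℤ) * y₁ (E (rep cs hp.isCartan (v i) x))) -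
        (y₀ (E x) + ((i : ℕ) : ℤ) * y₁ (E x))) - ((i : ℕ) : ℤ) *
        (y₁ (E (rep cs hp.isCartan (v i) x)) - y₁ (E x)) := by ring
      rw [e2]
      exact dvd_sub h1 (h2.mul_left _)
    intro s hs x
    obtain ⟨y, hy⟩ := hsurj s hs.2.1
    obtain ⟨m, n, rfl⟩ := hgen 0 X₀ U hX₀ hU y (hPQ (by rw [hPP, hy]; exact hs))
    rw [← hy, map_mul, map_pow, map_pow, hX₀, hU, cX_mul hp (pow_mem (htT _) _) (pow_mem (htT _) _),
      cX_mul hp (pow_mem (htT _) _) (pow_mem (htT _) _), cX_pow hp (htT _), cX_pow hp (htT _), cX_pow hp (htT _),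
      cX_pow hp (htT _), hcX, hcX, hcX, hcX]
    have e4 : (ζ ^ (y₀ + (0 : ℤ) • y₁) (E (rep cs hp.isCartan (v i) x)) : kˣ) = ζ ^ (y₀ + (0 : ℤ) • y₁) (E x) := by
      apply hζd'
      rw [zero_smul, add_zero]
      exact hd0 x
    have e5 : (ζ ^ y₁ (E (rep cs hp.isCartan (v i) x)) : kˣ) = ζ ^ y₁ (E x) := hζd' _ _ (hd1 x)
    rw [e4, e5]
  obtain ⟨j, hj⟩ := hbad
  obtain ⟨X, hX⟩ := hsurj (t (y₀ + ((j : ℕ) : ℤ) • y₁)) (htw _)
  have hXP : X ∈ P := by rw [hPP, hX]; exact htP _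
  have hXQ : X ∈ (Q : Subgroup ↥(D.group F)) := hPQ hXP
  have hUQ : U ∈ (Q : Subgroup ↥(D.group F)) := hPQ hUP
  refine evAt_of_real_pair hp2 Q ?_ hXQ ?_ ?_ (u := U) ?_ ?_
  · -- commutative
    intro x hx y hy
    rw [hQP, hPP] at hx hy
    apply hθi
    rw [map_mul, map_mul]
    exact TT_comm hp hx.1 hy.1
  · -- nontrivial
    intro h1
    rw [h1, map_one] at hX
    have h2 := hcX (y₀ + ((j : ℕ) : ℤ) • y₁) x₀
    rw [← hX, cX_one] at h2
    have h3 : (N : ℤ) ∣ (y₀ + ((j : ℕ) : ℤ) • y₁) (E x₀) := by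
      rw [← hζ.zpow_eq_one_iff_dvd]
      exact (Units.ext h2).symm
    have h4 : (y₀ + ((j : ℕ) : ℤ) • y₁) (E x₀) = y₀ (E x₀) + ((j : ℕ) : ℤ) * y₁ (E x₀) := rfl
    rw [h4] at h3
    have h5 : (N : ℤ) ∣ 1 := by
      have e1 : (1 : ℤ) = (y₀ (E x₀) + ((j : ℕ) : ℤ) * y₁ (E x₀)) - (y₀ (E x₀) - 1) -
        y₁ (E x₀) * ((j : ℕ) : ℤ) := by ring
      rw [e1]
      exact dvd_sub (dvd_sub h3 h00) (h10.mul_right _)
    have h6 : N ∣ 1 := by exact_mod_cast h5
    have h7 : p ∣ 1 := (dvd_pow_self p ha.ne').trans h6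
    exact hpp.out.one_lt.ne' (Nat.dvd_one.1 h7)
  · -- real
    have hnegc : ∀ x, cX hp (t (y₀ + ((j : ℕ) : ℤ) • y₁)) x =
        cX hp (t (y₀ + ((j : ℕ) : ℤ) • y₁)) (rep cs hp.isCartan w₀ x) ^ (-1 : ℤ) := by
      intro x
      rw [hneg, (isMC_cX hp (htT _)).neg, zpow_neg_one, inv_inv]
    obtain ⟨y, hy1, hy2⟩ := real_fixed hp cs hk he hσ hFr hB one_ne_zero (w' := w₀) hg (htT (y₀ + ((j : ℕ) : ℤ) • y₁))
      hz (fun x => by rw [theta_apply, theta_apply, hneg]; show _ = rep cs hp.isCartan w (rep cs hp.isCartan w₀ x);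
                      rw [hneg, map_neg]; rfl) hnegc
    obtain ⟨c, hc⟩ := fix_range hp cs f hq hB one_ne_zero (fun b => ⟨b, pow_one b⟩) hy1
    rw [isConj_iff]
    refine ⟨c, emb_injective hp.inList f ?_⟩
    rw [map_mul, map_mul, map_inv, map_inv, hc]
    have h1 : emb hp.inList f X = z * t (y₀ + ((j : ℕ) : ℤ) • y₁) * z⁻¹ := by
      rw [← hX, hθ]; group
    rw [h1, hy2, zpow_neg_one]
  · -- generation
    apply le_antisymm
    · intro x hx
      obtain ⟨i, m, rfl⟩ := hgen _ X U hX hU x hx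
      exact mul_mem (pow_mem (Subgroup.subset_closure (by simp)) i) (pow_mem (Subgroup.subset_closure (by simp)) m)
    · rw [Subgroup.closure_le]
      rintro x (rfl | rfl)
      · exact hXQ
      · exact hUQ
  · -- the condition on the normalizer
    intro y hyN hyX hyy v hv
    have hPfin : Finite ↥P' := by
      have h1 : (P' : Set ↥(D.group k)) ⊆ Set.range θ := fun s hs => by
        obtain ⟨x, hx⟩ := hsurj s hs.2.1
        exact ⟨x, hx⟩
      exact ((Set.finite_range θ).subset h1).to_subtype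
    have hyP : θ y ∈ Subgroup.normalizer (P' : Set ↥(D.group k)) := by
      rw [Subgroup.mem_normalizer_iff]
      have key : ∀ x, x ∈ P ↔ y * x * y⁻¹ ∈ P := by
        intro x
        have := Subgroup.mem_normalizer_iff.1 hyN x
        rw [← hQP]
        exact this
      intro s
      constructor
      · intro hs
        obtain ⟨x, rfl⟩ := hsurj s hs.2.1
        have h1 := (key x).1 hs
        rw [hPP, map_mul, map_mul, map_inv] at h1
        exact h1
      · intro hs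
        obtain ⟨x, hx⟩ := hsurj _ hs.2.1
        have h1 : s = θ (y⁻¹ * x * y) := by
          rw [map_mul, map_mul, map_inv, hx]; group
        rw [h1]
        have h2 := (key (y⁻¹ * x * y)).2 (by
          have : y * (y⁻¹ * x * y) * y⁻¹ = x := by group
          rw [this, hPP, hx]; exact hs)
        exact h2
    obtain ⟨u, hu⟩ := exists_rp_of_normalizes hp cs hk r hN (S := P') (fun s hs => hs.1) (fun α hα => by
      obtain ⟨y', hy'⟩ := hroot α hα
      refine ⟨t y', htP y', ?_⟩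
      rw [← cX_root hp cs (htT y') hα, hcX]
      intro h1
      apply hy'
      have h2 : (ζ ^ y' (E α) : kˣ) = 1 := Units.ext h1
      rw [hζ.zpow_eq_one_iff_dvd] at h2
      refine dvd_trans ?_ h2
      rw [hNdef]
      exact_mod_cast dvd_pow_self p ha.ne') hyP
    have hcomm := comm_of_twist hp cs hk hσ hFr hB one_ne_zero hg hu (hθσ y)
    have hsq : u * u = 1 := by
      apply hfix
      intro s hs x
      obtain ⟨x', hx'⟩ := hsurj s hs.2.1
      have h1 := hyy x' (hPQ (by rw [hPP, hx']; exact hs))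
      have h2 : (θ y * θ y) * s * (θ y * θ y)⁻¹ = s := by
        rw [← hx', ← map_mul, ← map_mul, ← map_inv, ← map_mul, h1]
        congr 1
        group
      have h3 := cX_rp hp cs hk r (hu.mul hu) hs.1 x
      rw [h2] at h3
      exact h3
    have hone : u = 1 := by
      refine hj u hsq hcomm fun x => ?_
      have h2 : θ y * t (y₀ + ((j : ℕ) : ℤ) • y₁) * (θ y)⁻¹ = t (y₀ + ((j : ℕ) : ℤ) • y₁) := by
        rw [← hX, ← map_mul, hyX, map_mul]; group
      have h3 := cX_rp hp cs hk r hu (htT (y₀ + ((j : ℕ) : ℤ) • y₁)) x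
      rw [h2] at h3
      exact h3
    rw [hone] at hu
    have hyT := hu.mem_of_one
    rw [hQP, hPP] at hv
    apply hθi
    rw [map_mul, map_mul]
    exact TT_comm hp hyT hv.1

end Cfsg.Agent.H790.EP.Rank2
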