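import Cfsg.Agent.H790.EP.Rank2
import Cfsg.Agent.H790.EP.Data8
import Cfsg.Agent.H809.Evn.Cyc
import Cfsg.Agent.H720.RowsNeg
import Cfsg.Agent.S2378
import Cfsg.Agent.S1093

/-!
# S4929: the groups `E₈(q)`, primes `p` with `ord_p(q) ≥ 9` (helper790)
-/

set_option autoImplicit false

namespace Cfsg.Agent.H790.EP

open CoxeterSystem Cfsg Cfsg.Lie Cfsg.Lie.ChevalleyDatum
open Cfsg.Agent.ChevalleyStructure Cfsg.Agent.ChevalleyStructure.CoxeterGeom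
  Cfsg.Agent.ChevalleyStructure.CoxeterGeomTypes Cfsg.Agent.Tits.Roots Cfsg.Agent.Tits.Core
  Cfsg.Agent.Nodes.RGDChev Cfsg.Agent.H129.TorusChar
  Cfsg.Agent.H130.WeylCk Cfsg.Agent.H130.WeylTab Cfsg.Agent.H130.PolyL Cfsg.Agent.H130.Homo
open Cfsg.Agent.H790.EP.Lat8 Cfsg.Agent.H790.EP.Data8 Cfsg.Agent.H790.EP.Rank2
open Cfsg.Agent.H892.EP (EvAt)

universe u

theorem hp8 : IsType chevE8 8 CoxeterMatrix.E₈ := by simp [IsType, typeList]

theorem isRoot_RL {a : Fin 8 → ℤ} (ha : IsRoot CoxeterMatrix.E₈.toCoxeterSystem hp8.isCartan a) :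
    ∃ x ∈ RL, toFn 8 x = a := by
  obtain ⟨r, hr, rfl⟩ := (isRoot_iff hp8 CoxeterMatrix.E₈.toCoxeterSystem a).1 ha
  refine ⟨List.ofFn (vec chevE8 8 r), List.mem_map.2 ⟨r, List.mem_range.2 hr, rfl⟩, ?_⟩
  funext j
  show (List.ofFn (vec chevE8 8 r)).getD j.1 0 = _
  rw [List.getD_eq_getElem _ _ (by rw [List.length_ofFn]; exact j.2), List.getElem_ofFn]

theorem isRoot_bas (i : Fin 8) : IsRoot CoxeterMatrix.E₈.toCoxeterSystem hp8.isCartan (toFn 8 (bas 8 i)) := by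
  rw [toFn_bas]
  exact isRoot_sr _ _ i

/-- the operator `(Φ(X) - Φ(q)) / (X - q)` at `ω` -/
def opE (ω : Module.End ℤ (Fin 8 → ℤ)) (c₁ c₂ c₃ q : ℤ) : Module.End ℤ (Fin 8 → ℤ) :=
  (c₁ + c₂ * q + c₃ * q ^ 2 + q ^ 3) • (1 : Module.End ℤ (Fin 8 → ℤ)) + (c₂ + c₃ * q + q ^ 2) • ω +
    (c₃ + q) • (ω ^ 2) + ω ^ 3

theorem opE_apply (ω : Module.End ℤ (Fin 8 → ℤ)) (c₁ c₂ c₃ q : ℤ) (x : Fin 8 → ℤ) :
    opE ω c₁ c₂ c₃ q x = (c₁ + c₂ * q + c₃ * q ^ 2 + q ^ 3) • (ω ^ 0) x + (c₂ + c₃ * q + q ^ 2) • (ω ^ 1) x +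
      (c₃ + q) • (ω ^ 2) x + (ω ^ 3) x := by
  rw [pow_zero, pow_one]
  rfl

theorem opE_comp {ω : Module.End ℤ (Fin 8 → ℤ)} {c₀ c₁ c₂ c₃ q N : ℤ}
    (hΦ : ∀ x, Polynomial.aeval ω (ofL [c₀, c₁, c₂, c₃, 1]) x = 0)
    (hN : N ∣ c₀ + c₁ * q + c₂ * q ^ 2 + c₃ * q ^ 3 + q ^ 4) (x : Fin 8 → ℤ) :
    ∃ x', opE ω c₁ c₂ c₃ q (ω x) = q • opE ω c₁ c₂ c₃ q x + N • x' := by
  obtain ⟨m, hm⟩ := hN
  refine ⟨(-m) • x, ?_⟩
  have h1 := hΦ x
  simp only [ofL, map_add, map_mul, Polynomial.aeval_X, Polynomial.aeval_C, mul_zero, add_zero,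
    LinearMap.add_apply, Module.End.mul_apply, Module.algebraMap_end_apply] at h1
  have e1 : ∀ n, (ω ^ n) (ω x) = (ω ^ (n + 1)) x := by
    intro n
    rw [pow_succ]
    rfl
  have h2 : (ω ^ 4) x = -(c₀ • x + c₁ • (ω ^ 1) x + c₂ • (ω ^ 2) x + c₃ • (ω ^ 3) x) := by
    have e2 : ∀ n, (ω ^ (n + 1)) x = ω ((ω ^ n) x) := by
      intro n
      rw [pow_succ']
      rfl
    rw [e2 3, e2 2, e2 1, pow_one]
    rw [eq_neg_iff_add_eq_zero, ← h1]
    simp only [map_smul, one_smul]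
    abel
  rw [opE_apply, opE_apply, e1, e1, e1, e1]
  show _ + (ω ^ 4) x = _
  rw [h2]
  show (c₁ + c₂ * q + c₃ * q ^ 2 + q ^ 3) • (ω ^ 1) x + (c₂ + c₃ * q + q ^ 2) • (ω ^ 2) x +
      (c₃ + q) • (ω ^ 3) x + _ = _
  rw [pow_zero]
  funext j
  simp only [Pi.add_apply, Pi.smul_apply, Pi.neg_apply, smul_eq_mul, Module.End.one_apply]
  linear_combination (-(x j)) * hm

/-- **The rank two case.** -/
theorem rank2_e8 (F : Type u) [Field F] [Fintype F] {p : ℕ} [hpp : Fact p.Prime] (hp2 : p ≠ 2) (hp8' : 11 ≤ p)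
    (hpq : ¬ p ∣ Fintype.card F) (hpW : ¬ p ∣ Nat.card CoxeterMatrix.E₈.Group) {a : ℕ} (ha : 0 < a)
    (hcard : (Nat.card ↥(chevE8.group F)).factorization p ≤ 2 * a)
    (L : List (Fin 8)) (k : ℕ) (c d : List (List ℤ)) {c₀ c₁ c₂ c₃ : ℤ}
    (hdvd : ((p ^ a : ℕ) : ℤ) ∣ c₀ + c₁ * (Fintype.card F : ℤ) + c₂ * (Fintype.card F : ℤ) ^ 2 +
      c₃ * (Fintype.card F : ℤ) ^ 3 + (Fintype.card F : ℤ) ^ 4)
    (hΦ : ∀ j : Fin 8, horner alE8 L k (bas 8 j) [c₀, c₁, c₂, c₃, 1] = List.replicate 8 0)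
    {r₁ r₂ : List (List ℤ)} (hr₁ : r₁ = rows1 alE8 L k (bas 8 7)) (hr₂ : r₂ = rows1 alE8 L k (bas 8 6))
    {pq : List (List ℤ × List ℤ)} (hpq' : pq = rows2 alE8 L k (bas 8 7) (bas 8 6)) {T : List (ℕ × ℤ)}
    (hT : T = vals alE8 L k (bas 8 7) (bas 8 6))
    (hprs : (prs alE8 L RL r₁ r₂ pq T (bas 8 7) (bas 8 6)).length < 8)
    (hcd : ∀ j : Fin 8, bas 8 j = addV (horner alE8 L k (bas 8 7) (c.getD j []))
      (horner alE8 L k (bas 8 6) (d.getD j [])))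
    (y₀ y₁ : List ℤ) (hy0 : y₀.length = 8) (hy1 : y₁.length = 8)
    (hdual : ∀ m : Fin 4, dot y₀ (acn alE8 L (k * m) (bas 8 7)) = (if m = 3 then 1 else 0) ∧
      dot y₁ (acn alE8 L (k * m) (bas 8 7)) = 0 ∧
      dot y₁ (acn alE8 L (k * m) (bas 8 6)) = (if m = 3 then 1 else 0))
    (hts : ∀ a b c : ℤ, |a| ≤ 2 → |b| ≤ 2 → c₀ * a + c₁ * 2 + c₂ * a + c₃ * b + c = 0 →
      c₀ * b + c₁ * a + c₂ * 2 + c₃ * a + b = 0 →
      ¬ (p : ℤ) ∣ (c₁ + c₂ * (Fintype.card F : ℤ) + c₃ * (Fintype.card F : ℤ) ^ 2 +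
      (Fintype.card F : ℤ) ^ 3) * 2 + (c₂ + c₃ * (Fintype.card F : ℤ) + (Fintype.card F : ℤ) ^ 2) * a +
      (c₃ + (Fintype.card F : ℤ)) * b + c) :
    EvAt p ↥(chevE8.group F) := by
  have hfinW : Finite CoxeterMatrix.E₈.Group := finite_W hp8 CoxeterMatrix.E₈.toCoxeterSystem
  set cs := CoxeterMatrix.E₈.toCoxeterSystem with hcs
  obtain ⟨w₀, hw₀⟩ := Cfsg.Agent.H720.RowsNeg.exists_neg lists_E8 cs hp8.isCartan w10 15 neg8
  set w := cs.wordProd L ^ k with hw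
  set ω := rep cs hp8.isCartan w with hω
  set q : ℤ := (Fintype.card F : ℤ) with hq
  have hpw : ∀ (i : ℕ) (x : List ℤ), x.length = 8 → toFn 8 (acn alE8 L (k * i) x) = (ω ^ i) (toFn 8 x) := by
    intro i x hx
    rw [toFn_acn cs hp8.isCartan lists_E8 L _ _ hx, hω, hw, map_pow, ← pow_mul]
  have hΦ' : ∀ x, Polynomial.aeval ω (ofL [c₀, c₁, c₂, c₃, 1]) x = 0 := by
    intro x
    have h1 := Cfsg.Agent.H720.RowsNeg.eq_of_sr (f := Polynomial.aeval ω (ofL [c₀, c₁, c₂, c₃, 1])) (g := 0)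
      (fun i => ?_) x
    · exact h1
    · have h2 : (sr i : Fin 8 → ℤ) = toFn 8 (bas 8 i) := (toFn_bas i).symm
      rw [h2, hω, hw, ← toFn_horner cs hp8.isCartan lists_E8 L k _ (length_bas i.1), hΦ i, toFn_replicate]
      rfl
  have hdot : ∀ (y : List ℤ), y.length = 8 → ∀ (i : ℕ) (x : List ℤ), x.length = 8 →
      fn 8 y ((ω ^ i) (toFn 8 x)) = dot y (acn alE8 L (k * i) x) := by
    intro y hy i x hx
    rw [dot_eq _ _ hy (by rw [length_acn, hx]), hpw i x hx]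
    rfl
  have hval : ∀ (y x : List ℤ), y.length = 8 → x.length = 8 →
      fn 8 y (opE ω c₁ c₂ c₃ q (toFn 8 x)) = (c₁ + c₂ * q + c₃ * q ^ 2 + q ^ 3) * dot y (acn alE8 L (k * 0) x) +
        (c₂ + c₃ * q + q ^ 2) * dot y (acn alE8 L (k * 1) x) + (c₃ + q) * dot y (acn alE8 L (k * 2) x) +
        dot y (acn alE8 L (k * 3) x) := by
    intro y x hy hx
    rw [opE_apply, map_add, map_add, map_add, map_smul, map_smul, map_smul, hdot y hy 0 x hx, hdot y hy 1 x hx,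
      hdot y hy 2 x hx, hdot y hy 3 x hx]
    rfl
  have hd0 := hdual 0
  have hd1 := hdual 1
  have hd2 := hdual 2
  have hd3 := hdual 3
  refine evAt_rank2 hp8 cs (w := w) (w₀ := w₀) rfl hp2 (by omega) hpq hpW invC_E8 ha hcard hw₀
    (opE ω c₁ c₂ c₃ q) (fun x => opE_comp hΦ' hdvd x) (toFn 8 (bas 8 7)) (toFn 8 (bas 8 6)) (fn 8 y₀) (fn 8 y₁)
    ?_ ?_ ?_ ?_ ?_
  · rw [hval y₀ _ hy0 (length_bas 7), show dot y₀ (acn alE8 L (k * 0) (bas 8 7)) = 0 from hd0.1,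
      show dot y₀ (acn alE8 L (k * 1) (bas 8 7)) = 0 from hd1.1,
      show dot y₀ (acn alE8 L (k * 2) (bas 8 7)) = 0 from hd2.1,
      show dot y₀ (acn alE8 L (k * 3) (bas 8 7)) = 1 from hd3.1]
    simp
  · rw [hval y₁ _ hy1 (length_bas 7), show dot y₁ (acn alE8 L (k * 0) (bas 8 7)) = 0 from hd0.2.1,
      show dot y₁ (acn alE8 L (k * 1) (bas 8 7)) = 0 from hd1.2.1,
      show dot y₁ (acn alE8 L (k * 2) (bas 8 7)) = 0 from hd2.2.1,
      show dot y₁ (acn alE8 L (k * 3) (bas 8 7)) = 0 from hd3.2.1]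
    simp
  · rw [hval y₁ _ hy1 (length_bas 6), show dot y₁ (acn alE8 L (k * 0) (bas 8 6)) = 0 from hd0.2.2,
      show dot y₁ (acn alE8 L (k * 1) (bas 8 6)) = 0 from hd1.2.2,
      show dot y₁ (acn alE8 L (k * 2) (bas 8 6)) = 0 from hd2.2.2,
      show dot y₁ (acn alE8 L (k * 3) (bas 8 6)) = 1 from hd3.2.2]
    simp
  · -- no root vanishes
    intro α hα
    refine ⟨bf (cartanOf chevE8 8) α, ?_⟩
    have h2 := bf_self cs hp8.isCartan symm8 diag8 hα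
    obtain ⟨h3, h4⟩ := gram cs hp8.isCartan symm8 diag8 w h2 (hΦ' α)
    have hb : ∀ i, |bf (cartanOf chevE8 8) α ((ω ^ i) α)| ≤ 2 := by
      intro i
      refine bf_bound cs hp8.isCartan symm8 diag8 (fun i a ha => ?_) hα ?_
      · obtain ⟨r, hr, rfl⟩ := (isRoot_iff hp8 cs a).1 ha
        rw [pairing_vec hp8 i hr]
        exact bound8 _ _
      · rw [hω, ← map_pow]
        exact hα.act _
    rw [opE_apply, map_add, map_add, map_add, map_smul, map_smul, map_smul, pow_zero, Module.End.one_apply, h2]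
    exact hts _ _ _ (hb 1) (hb 2) h3 h4
  · -- involutions
    intro g hg
    exact exists_eq cs hp8.isCartan lists_E8 rfl symm8 diag8 L k RL length_RL (fun a ha => isRoot_RL ha)
      (length_bas 7) (length_bas 6) (isRoot_bas 7) (isRoot_bas 6) (fun j => c.getD j []) (fun j => d.getD j []) hcd
      hr₁ hr₂ hpq' hT hprs g hg

/-! ### arithmetic -/

/-- the degrees of the Weyl group -/
def degs8 : List ℕ := [2, 8, 12, 14, 18, 20, 24, 30]

theorem le_seven {p : ℕ} (hp : p.Prime) (h : p ∣ 696729600) : p ≤ 7 := by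
  have h1 : (696729600 : ℕ) = 2 ^ 14 * 3 ^ 5 * 5 ^ 2 * 7 := by norm_num
  rw [h1] at h
  rcases (Nat.Prime.dvd_mul hp).1 h with h | h
  · rcases (Nat.Prime.dvd_mul hp).1 h with h | h
    · rcases (Nat.Prime.dvd_mul hp).1 h with h | h
      · exact (Nat.le_of_dvd (by norm_num) (hp.dvd_of_dvd_pow h)).trans (by norm_num)
      · exact (Nat.le_of_dvd (by norm_num) (hp.dvd_of_dvd_pow h)).trans (by norm_num)
    · exact (Nat.le_of_dvd (by norm_num) (hp.dvd_of_dvd_pow h)).trans (by norm_num)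
  · exact Nat.le_of_dvd (by norm_num) h

theorem mem_of_dvd : ∀ i ∈ degs8, ∀ e < 31, 9 ≤ e → e ∣ i → e ∈ [9, 10, 12, 14, 15, 18, 20, 24, 30] := by
  decide

theorem cyc_of {G : Type*} [Group G] {n m : ℕ} (hn : n = 1) (f : G ≃* (Fin n → Multiplicative (ZMod m))) :
    IsCyclic G := by
  subst hn
  exact isCyclic_of_surjective (f.trans (MulEquiv.funUnique (Fin 1) _)).symm.toMonoidHom
    (f.trans (MulEquiv.funUnique (Fin 1) _)).symm.surjective

theorem not_dvd_of_bezout {p : ℕ} {g φ A C n : ℤ} {m : ℕ} (hn : n = m) (hm : 0 < m) (hmp : m < p)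
    (hφ : (p : ℤ) ∣ φ) (h : A * g + C * φ = n) : ¬ (p : ℤ) ∣ g := by
  intro hg
  have h1 : (p : ℤ) ∣ n := by
    rw [← h]
    exact dvd_add (hg.mul_left _) (hφ.mul_left _)
  rw [hn, Int.natCast_dvd_natCast] at h1
  exact absurd (Nat.le_of_dvd hm h1) (by omega)

theorem hts10 {p : ℕ} (hp11 : 11 ≤ p) {q : ℤ}
    (hφ : (p : ℤ) ∣ 1 + (-1) * q + 1 * q ^ 2 + (-1) * q ^ 3 + q ^ 4) (a b c : ℤ) (ha : |a| ≤ 2) (hb : |b| ≤ 2)
    (h1 : 1 * a + (-1) * 2 + 1 * a + (-1) * b + c = 0) (h2 : 1 * b + (-1) * a + 1 * 2 + (-1) * a + b = 0) :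
    ¬ (p : ℤ) ∣ ((-1) + 1 * q + (-1) * q ^ 2 + q ^ 3) * 2 + (1 + (-1) * q + q ^ 2) * a + ((-1) + q) * b + c := by
  rw [abs_le] at ha hb
  obtain ⟨ha1, ha2⟩ := ha
  obtain ⟨hb1, hb2⟩ := hb
  obtain rfl : b = a - 1 := by omega
  obtain rfl : c = 1 - a := by omega
  have ha3 : -1 ≤ a := by omega
  interval_cases a
  · exact not_dvd_of_bezout (A := 3 + 4 * q + 4 * q ^ 2 + 3 * q ^ 3) (C := 2 - 5 * q - 6 * q ^ 2) (n := 5) (m := 5)
      rfl (by norm_num) (by omega) hφ (by ring)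
  · exact not_dvd_of_bezout (A := -1 - 3 * q - 3 * q ^ 2 - q ^ 3) (C := 5 + 6 * q + 2 * q ^ 2) (n := 5) (m := 5)
      rfl (by norm_num) (by omega) hφ (by ring)
  · exact not_dvd_of_bezout (A := 1 - 2 * q - 2 * q ^ 2 + q ^ 3) (C := 6 + 3 * q - 2 * q ^ 2) (n := 5) (m := 5)
      rfl (by norm_num) (by omega) hφ (by ring)
  · exact not_dvd_of_bezout (A := -3 + q + q ^ 2 - 3 * q ^ 3) (C := -1 + 4 * q + 6 * q ^ 2) (n := 5) (m := 5)
      rfl (by norm_num) (by omega) hφ (by ring)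

theorem hts12 {p : ℕ} (hp11 : 11 ≤ p) {q : ℤ}
    (hφ : (p : ℤ) ∣ 1 + 0 * q + (-1) * q ^ 2 + 0 * q ^ 3 + q ^ 4) (a b c : ℤ) (ha : |a| ≤ 2) (_ : |b| ≤ 2)
    (h1 : 1 * a + 0 * 2 + (-1) * a + 0 * b + c = 0) (h2 : 1 * b + 0 * a + (-1) * 2 + 0 * a + b = 0) :
    ¬ (p : ℤ) ∣ (0 + (-1) * q + 0 * q ^ 2 + q ^ 3) * 2 + ((-1) + 0 * q + q ^ 2) * a + (0 + q) * b + c := by
  rw [abs_le] at ha
  obtain ⟨ha1, ha2⟩ := ha
  obtain rfl : b = 1 := by omega
  obtain rfl : c = 0 := by omega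
  interval_cases a
  · exact not_dvd_of_bezout (A := q + 2 * q ^ 2 + q ^ 3) (C := 1 - 2 * q - 2 * q ^ 2) (n := 1) (m := 1)
      rfl (by norm_num) (by omega) hφ (by ring)
  · exact not_dvd_of_bezout (A := -q - q ^ 2 - q ^ 3) (C := 2 + q + 2 * q ^ 2) (n := 2) (m := 2)
      rfl (by norm_num) (by omega) hφ (by ring)
  · exact not_dvd_of_bezout (A := -q - q ^ 3) (C := 3 + 2 * q ^ 2) (n := 3) (m := 3)
      rfl (by norm_num) (by omega) hφ (by ring)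
  · exact not_dvd_of_bezout (A := -q + q ^ 2 - q ^ 3) (C := 2 - q + 2 * q ^ 2) (n := 2) (m := 2)
      rfl (by norm_num) (by omega) hφ (by ring)
  · exact not_dvd_of_bezout (A := q - 2 * q ^ 2 + q ^ 3) (C := 1 + 2 * q - 2 * q ^ 2) (n := 1) (m := 1)
      rfl (by norm_num) (by omega) hφ (by ring)

/-- the value of the cyclotomic polynomial is divisible by `p ^ val` -/
theorem pow_val_dvd {p q : ℕ} [Fact p.Prime] {L : List ℤ} (h : Polynomial.cyclotomic (orderOf (q : ZMod p)) ℤ = ofL L) :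
    ((p ^ val p q : ℕ) : ℤ) ∣ (ofL L).eval (q : ℤ) := by
  rw [← h, Int.natCast_dvd]
  exact pow_padicValNat_dvd

/-- d = 9, 10, 12, 14, 15, 18, 20, 24, 30 -/
theorem rest_e8 (F : Type) [Field F] [Fintype F] (ho : Odd (Fintype.card F)) (p : ℕ) [Fact p.Prime] (hp : p ≠ 2)
    (h0 : ¬ p ∣ Fintype.card F) (h : ∀ d ∈ [1, 2, 3, 4, 5, 6, 7, 8], ¬ p ∣ Fintype.card F ^ d - 1)
    (hd : p ∣ Nat.card ↥(Lie.chevE8.group F)) : EvAt p ↥(Lie.chevE8.group F) := by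
  have hpp : p.Prime := Fact.out
  have hq1 : 1 < Fintype.card F := Fintype.one_lt_card
  have he9 : 9 ≤ orderOf ((Fintype.card F : ℕ) : ZMod p) := by
    by_contra hlt
    push Not at hlt
    have hpos := orderOf_pos_zmod (r := p) h0
    refine h (orderOf ((Fintype.card F : ℕ) : ZMod p)) ?_ ((dvd_pow_sub_one_iff h0 _).2 dvd_rfl)
    simp only [List.mem_cons, List.not_mem_nil, or_false]
    omega
  have hp11 : 11 ≤ p := by
    have h1 := Nat.le_of_dvd (by have := hpp.two_le; omega) (orderOf_dvd_sub_one (r := p) h0)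
    have h2 : 10 ≤ p := by omega
    rcases Nat.lt_or_ge 10 p with h3 | h3
    · omega
    · have : p = 10 := by omega
      subst this
      norm_num at hpp
  have hdegs : ¬ p ∣ degs8.prod := fun h1 => by
    have h2 : degs8.prod = 696729600 := by decide
    rw [h2] at h1
    have := le_seven hpp h1
    omega
  have hcardW : ¬ p ∣ Nat.card CoxeterMatrix.E₈.Group := fun h1 => by
    have h2 : Nat.card CoxeterMatrix.E₈.Group = 696729600 :=
      Cfsg.Agent.S1093.result (⟨8, CoxeterMatrix.E₈⟩, 696729600) (by simp)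
    rw [h2] at h1
    have := le_seven hpp h1
    omega
  have hX : 1 * Nat.card ↥(chevE8.group F) = Fintype.card F ^ 120 *
      (degs8.map (fun i => Fintype.card F ^ i - 1)).prod := by
    rw [Cfsg.Agent.S1065.result (F := F) rfl]
    simp only [degs8, List.map_cons, List.map_nil, List.prod_cons, List.prod_nil]
    ring
  have hval := Cfsg.Agent.H130.ChevSyl.val_card h0 hq1 hdegs hX (fun h1 => hpp.one_lt.ne' (Nat.dvd_one.1 h1))
  have hcard0 : Nat.card ↥(chevE8.group F) ≠ 0 := Nat.card_pos.ne'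
  have hfpos : 0 < (Nat.card ↥(chevE8.group F)).factorization p := hpp.factorization_pos_of_dvd hcard0 hd
  have hvpos : 0 < val p (Fintype.card F) := by
    rcases Nat.eq_zero_or_pos (val p (Fintype.card F)) with h1 | h1
    · rw [hval, h1, mul_zero] at hfpos
      exact absurd hfpos (lt_irrefl 0)
    · exact h1
  have hmem : orderOf ((Fintype.card F : ℕ) : ZMod p) ∈ [9, 10, 12, 14, 15, 18, 20, 24, 30] := by
    have h1 : (degs8.filter (fun i => orderOf ((Fintype.card F : ℕ) : ZMod p) ∣ i)) ≠ [] := by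
      intro h2
      rw [hval, h2, List.length_nil, zero_mul] at hfpos
      exact absurd hfpos (lt_irrefl 0)
    obtain ⟨i, hi⟩ := List.exists_mem_of_ne_nil _ h1
    rw [List.mem_filter, decide_eq_true_eq] at hi
    have hi30 : ∀ i ∈ degs8, i ≤ 30 ∧ 0 < i := by decide
    have h3 := hi30 i hi.1
    exact mem_of_dvd i hi.1 _ (lt_of_le_of_lt ((Nat.le_of_dvd h3.2 hi.2).trans h3.1) (by norm_num)) he9 hi.2
  -- the cyclic case
  have hcyc : (degs8.filter (fun i => orderOf ((Fintype.card F : ℕ) : ZMod p) ∣ i)).length = 1 →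
      EvAt p ↥(Lie.chevE8.group F) := by
    intro hl
    have hcycP : ∀ P : Sylow p ↥(Lie.chevE8.group F), IsCyclic (P : Subgroup ↥(Lie.chevE8.group F)) := by
      intro P
      obtain ⟨f⟩ := Cfsg.Agent.S2378.result (F := F) rfl (Cfsg.Lie.chevE8, degs8)
        (by simp [degs8]) p h0 hdegs hd P
      exact cyc_of hl f
    obtain ⟨z, hz, hr⟩ := (Cfsg.Agent.H720.RowsNeg.E8 (F := F) rfl hpp h0 hd).isConj
    intro M hM
    exact Cfsg.Agent.H809.Evn.exists_even_of_real_cyclic hM hp hcycP z ⟨1, by rw [hz, pow_one]⟩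
      (fun h => hpp.one_lt.ne' (by rw [← hz, h, orderOf_one])) hr
  by_cases h10 : orderOf ((Fintype.card F : ℕ) : ZMod p) = 10
  · have hφ : ((p ^ val p (Fintype.card F) : ℕ) : ℤ) ∣ 1 + (-1) * (Fintype.card F : ℤ) +
        1 * (Fintype.card F : ℤ) ^ 2 + (-1) * (Fintype.card F : ℤ) ^ 3 + (Fintype.card F : ℤ) ^ 4 := by
      have h1 := pow_val_dvd (p := p) (q := Fintype.card F) (L := [1, -1, 1, -1, 1]) (by
        rw [h10]; exact cyclotomic_eq 10 (by decide))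
      refine h1.trans (dvd_of_eq ?_)
      simp only [ofL, Polynomial.eval_add, Polynomial.eval_mul, Polynomial.eval_X, Polynomial.eval_C,
        Polynomial.eval_zero]
      ring
    refine rank2_e8 F hp hp11 h0 hcardW hvpos ?_ w10 3 c10 d10 hφ phi10 ra10_eq rb10_eq pq10_eq T10_eq p10 cd10
      [0, 1, 0, 0, -1, 0, 0, 0] [1, 1, 1, -1, 0, -1, 0, 0] rfl rfl dual10 (hts10 hp11 ?_)
    · rw [hval, h10]
      exact le_of_eq rfl
    · refine dvd_trans ?_ hφ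
      exact_mod_cast dvd_pow_self p hvpos.ne'
  by_cases h12 : orderOf ((Fintype.card F : ℕ) : ZMod p) = 12
  · have hφ : ((p ^ val p (Fintype.card F) : ℕ) : ℤ) ∣ 1 + 0 * (Fintype.card F : ℤ) +
        (-1) * (Fintype.card F : ℤ) ^ 2 + 0 * (Fintype.card F : ℤ) ^ 3 + (Fintype.card F : ℤ) ^ 4 := by
      have h1 := pow_val_dvd (p := p) (q := Fintype.card F) (L := [1, 0, -1, 0, 1]) (by
        rw [h12]; exact cyclotomic_eq 12 (by decide))
      refine h1.trans (dvd_of_eq ?_)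
      simp only [ofL, Polynomial.eval_add, Polynomial.eval_mul, Polynomial.eval_X, Polynomial.eval_C,
        Polynomial.eval_zero]
      ring
    refine rank2_e8 F hp hp11 h0 hcardW hvpos ?_ w12 2 c12 d12 hφ phi12 ra12_eq rb12_eq pq12_eq T12_eq p12 cd12
      [0, 0, 1, 0, -1, 0, 0, 0] [1, 1, 0, -1, 0, 0, 0, 0] rfl rfl dual12 (hts12 hp11 ?_)
    · rw [hval, h12]
      exact le_of_eq rfl
    · refine dvd_trans ?_ hφ
      exact_mod_cast dvd_pow_self p hvpos.ne'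
  apply hcyc
  have hall : ∀ e ∈ [9, 10, 12, 14, 15, 18, 20, 24, 30], e ≠ 10 → e ≠ 12 →
      (degs8.filter (fun i => e ∣ i)).length = 1 := by decide
  exact hall _ hmem h10 h12

end Cfsg.Agent.H790.EP
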